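import Cfsg.Agent.Lib.OO.BGAB
import Cfsg.Agent.Lib.Coprime.StableSolv

/-!
# Puig's `ZL` theorem for solvable `p`-stable groups; control of fusion by `N(ZL(P))`
-/

set_option autoImplicit false
set_option linter.unusedSectionVars false

namespace Cfsg.Agent.ZL

open Subgroup Cfsg.Agent.Coprime Cfsg.Agent.OO
open Cfsg.Agent.OO.Pf (mem_Op_of_forall_syl puigSucc_mono puigSucc_le_iff le_puigSucc puigAt_le
  norm_le_norm_puigAt genNormAb_self cent_puigSucc_le quo_puig)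
open scoped Pointwise commutatorElement

universe u

variable {G : Type u} [Group G] [Finite G] {A D H K P S X Y : Subgroup G} {p : ℕ}

/-- solvable, and `p ≥ 5` or `p` odd with abelian Sylow 2-subgroups -/
def Stb (p : ℕ) (H : Subgroup G) : Prop :=
  Sol H ∧ (5 ≤ p ∨ (p ≠ 2 ∧ ∀ Q ≤ H, IsPGroup 2 Q → Ab Q))

theorem Stb.quo (h : Stb p H) (N : Subgroup G) : Stb p (H ⁒ N) := by
  refine ⟨sol_quo h.1 N, h.2.imp_right fun h2 => ⟨h2.1, fun Q hQ hQ2 => ?_⟩⟩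
  obtain ⟨R, h3, -, h4, rfl⟩ := exists_isPGroup_quo_eq hQ hQ2
  exact ab_quo (h2.2 R h3 h4) N

theorem Stb.of_le (h : Stb p H) (hK : K ≤ H) : Stb p K :=
  ⟨sol_of_le h.1 hK, h.2.imp_right fun h2 => ⟨h2.1, fun Q hQ => h2.2 Q (hQ.trans hK)⟩⟩

theorem Stb.quadratic [Fact p.Prime] (h : Stb p H) {V N : Subgroup G} {a b : G}
    (hL : closure ({a, b} : Set G) ≤ H) (hV : closure ({a, b} : Set G) ≤ 𝐍(V))
    (hN : closure ({a, b} : Set G) ≤ 𝐍(N)) (hVV : ⁅V, V⁆ ≤ N)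
    (hVp : ∀ v ∈ V, v ^ p ∈ N) (ha : ∀ v ∈ V, ⁅a, ⁅a, v⁆⁆ ∈ N) (hb : ∀ v ∈ V, ⁅b, ⁅b, v⁆⁆ ∈ N)
    {g : G} (hg : g ∈ closure ({a, b} : Set G)) (ho : (orderOf g).Coprime p) :
    ∀ v ∈ V, ⁅v, g⁆ ∈ N := by
  rcases h.2 with h5 | ⟨h2, h3⟩
  · exact commutator_mem_of_quadratic_solv h5 (isPSolvable_of_isSolvable (sol_of_le h.1 hL))
      hV hN hVV hVp ha hb hg ho
  · exact Core.commutator_mem_of_quadratic h2 (fun Q hQ => h3 Q (hQ.trans hL)) hV hN hVV hVp ha hb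
      hg ho

theorem pStable (p : ℕ) [hp : Fact p.Prime] (ho : Stb p H) : PStable p H := by
  intro P A hP hn hA hle hc
  have hCn : H ⊓ 𝐍(P) ≤ 𝐍(H ⊓ 𝐂(P)) :=
    le_norm_inf (le_norm_of_le inf_le_left) (le_norm_cent inf_le_right)
  intro z hz
  refine mem_Op_of_forall_syl (quo_mono _ hle hz) fun S' hS' => ?_
  obtain ⟨S, hS, rfl⟩ := exists_syl_quo_eq hCn hS'
  obtain ⟨w, hw, rfl⟩ := (mem_quo_of_le (hle.trans hCn)).1 hz
  rw [← quo_sup_self (hS.le.trans hCn)]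
  refine coset_mem_quo _ (Core.mem_sup_of_forall_pResidualOf_le hCn hS (hle hw) fun g hg => ?_)
  have hL : closure {w, g * w * g⁻¹} ≤ H ⊓ 𝐍(P) := (closure_le _).2 (by
    rintro _ (rfl | rfl)
    exacts [hle hw, mul_mem (mul_mem hg (hle hw)) (inv_mem hg)])
  have h1 : ∀ v ∈ P, ⁅w, ⁅w, v⁆⁆ = 1 := fun v hv => by
    have : ⁅⁅v, w⁆⁻¹, w⁆ ∈ ⁅⁅P, A⁆, A⁆ :=
      commutator_mem_commutator (inv_mem (commutator_mem_commutator hv hw)) hw
    rw [hc, mem_bot, commutatorElement_inv] at this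
    rw [← commutatorElement_inv, this, inv_one]
  refine Core.pResidualOf_le_of_forall fun x hx hxo => mem_inf.2 ⟨(hL hx).1, ?_⟩
  have h2 := ho.quadratic (V := P) (N := Phi P) (a := w) (b := g * w * g⁻¹) (hL.trans inf_le_left)
    (hL.trans inf_le_right) (le_norm_Phi (hL.trans inf_le_right)) (der_le_Phi hP)
    (fun v hv => pow_mem_Phi hP hv) (fun v hv => by rw [h1 v hv]; exact one_mem _)
    (fun v hv => by
      have : ⁅g * w * g⁻¹, ⁅g * w * g⁻¹, v⁆⁆ = g * ⁅w, ⁅w, g⁻¹ * v * g⁆⁆ * g⁻¹ := by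
        simp [commutatorElement_def, mul_assoc]
      rw [this, h1 _ (conj_mem_of_norm' hg.2 hv), mul_one, mul_inv_cancel]; exact one_mem _) hx hxo
  have hx2 : zpowers x ≤ 𝐍(P) := zpowers_le.2 (hL hx).2
  refine coprime_cent_Phi hP hx2 (coprime_card_of_isPGroup (by rwa [Nat.card_zpowers]) hP).symm ?_
    (mem_zpowers x)
  rw [← quo_le_cent_iff (le_norm_Phi (le_norm_self P)) (le_norm_Phi hx2), le_cent_comm,
    quo_zpowers (le_norm_Phi hx2 (mem_zpowers x)), zpowers_le,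
    coset_mem_cent_iff (le_norm_Phi hx2 (mem_zpowers x)) (le_norm_Phi (le_norm_self P))]
  exact fun b hb => by rw [← commutatorElement_inv]; exact inv_mem (h2 b hb)

theorem gen_stable [Fact p.Prime] (ho : Stb p H) (hP : IsPGroup p P) (hn : P ⊴ H)
    (hX : X ≤ H) (hg : GenNormAb p P X) : X ⁒ (H ⊓ 𝐂(P)) ≤ Op p (H ⁒ (H ⊓ 𝐂(P))) := by
  have hC := hn.cent.norm
  rw [quo_le_iff_le_quoPre (hX.trans hC)]
  refine hg.trans (sSup_le ?_)
  rintro A ⟨a1, a2, a3, a4⟩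
  rw [← quo_le_iff_le_quoPre (a1.trans (hX.trans hC))]
  have := pStable p ho P A hP ((Opi_normal _ H).sup hn) a2
    ((a1.trans hX).trans (le_inf le_rfl hn.norm))
    (commutator_eq_bot_iff.2 ((commutator_le_right' a4).trans a3.le_cent))
  rwa [inf_eq_left.2 hn.norm] at this

theorem gen_constrained [hp : Fact p.Prime] (ho : Stb p H) (hP : IsPGroup p P)
    (hn : P ⊴ H) (hX : X ≤ H) (hg : GenNormAb p P X) (h1 : Op' p H = ⊥) (h2 : Op p H ⊓ 𝐂(P) ≤ P) :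
    X ≤ Op p H := by
  have hC : IsPGroup p ↥(H ⊓ 𝐂(P)) := by
    refine PiGrp.isPGroup fun q hq hd => by_contra fun hqp => ?_
    obtain ⟨x, hx, hxo⟩ := cauchy hq hd
    have hxp : PiGrp ({p} : Set ℕ)ᶜ (zpowers x) := piGrp_zpowers.2 (by
      rw [PiElt, hxo]; exact (isPiNum_prime hq).2 hqp)
    have h3 : P ≤ Op p H ⊓ 𝐂(zpowers x) :=
      le_inf (le_Op hn hP) (le_cent_symm (zpowers_le.2 hx.2))
    have h4 := coprime_nil_faithful_cent_stab (A := zpowers x) (H := Op p H)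
      ((zpowers_le.2 hx.1).trans (Op_normal p H).norm) (coprime_of_isPGroup (Op_isPGroup p H) hxp)
      (Op_nil p H) (((inf_le_inf_left _ (cent_anti h3)).trans h2).trans h3)
    have h5 := (le_inf (zpowers_le.2 hx.1) h4).trans (cent_Op_le_of_Op'_eq_bot ho.1 h1)
    have h6 := ((Op_piGrp p H).of_le h5).eq_bot hxp
    rw [zpowers_eq_bot] at h6
    rw [h6, orderOf_one] at hxo
    exact hq.one_lt.ne hxo
  have := gen_stable ho hP hn hX hg
  rwa [← quo_Op hn.cent hC, quo_le_quo_iff (hX.trans hn.cent.norm) (le_Op hn.cent hC)] at this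

theorem puig_sub [Fact p.Prime] (ho : Stb p H) (hS : Syl p S H)
    (h1 : Op' p H = ⊥) : puigInf S ≤ puigInf (Op p H) ∧ puig (Op p H) ≤ puig S := by
  have hT := Op_le_syl hS
  have h2 : ∀ n, puigAt S (2 * n) ≤ puigAt (Op p H) (2 * n) := fun n => by
    induction n with
    | zero => exact bot_le
    | succ n ih =>
      have h3 : puigAt (Op p H) (2 * n + 1) ≤ puigAt S (2 * n + 1) := puigSucc_mono hT ih
      refine puigSucc_le_iff.2 fun A a1 a2 a3 => le_puigSucc ?_ a2 (h3.trans a3)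
      exact gen_constrained ho ((Op_isPGroup p H).to_le (puigAt_le _ _))
        ((Op_normal p H).char_trans (puigAt_le _ _) (norm_le_norm_puigAt _ _)) (a1.trans hS.le)
        (genNormAb_self a2 (hS.isPGroup.to_le a1) (h3.trans a3)) h1
        (cent_puigSucc_le (Op_isPGroup p H) (puigAt_le _ _))
  exact ⟨iSup_mono h2, iInf_mono fun n => puigSucc_mono hT (h2 n)⟩

theorem center_normal [Fact p.Prime] (ho : Stb p H) (hS : Syl p S H)
    (h1 : Op' p H = ⊥) : Zc (puig S) ⊴ H := by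
  obtain ⟨a1, a2⟩ := puig_sub ho hS h1
  obtain ⟨Y, hY⟩ : ∃ Y, Y = Zc (puig (Op p H)) := ⟨_, rfl⟩
  have hZY : Zc (puig S) ≤ Y := hY ▸ le_inf
    (((inf_le_inf (puig_le S) (cent_anti (puigInf_le_puig S))).trans
      (cent_puigInf_le hS.isPGroup)).trans (a1.trans (puigInf_le_puig _)))
    (inf_le_right.trans (cent_anti a2))
  have hYT : Y ≤ Op p H := hY ▸ (Zc_le _).trans (puig_le _)
  have hYn : Y ⊴ H := (Op_normal p H).char_trans hYT (hY ▸ norm_le_norm_center_puig _)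
  have hCn := hYn.cent
  obtain ⟨C, c1, c2, c3⟩ := exists_quo_eq_normal hCn (Op_normal p (H ⁒ (H ⊓ 𝐂(Y))))
  have hLH := (puig_le S).trans hS.le
  have hYL : Y ≤ puigInf S := puigInf_def S ▸ le_puigSucc (hYT.trans (Op_le_syl hS))
    (hY ▸ Zc_ab _) (hLH.trans hYn.norm)
  have hLC : puig S ≤ C := by
    rw [← quo_le_quo_iff (hLH.trans hCn.norm) c1, c3]
    refine gen_stable ho ((Op_isPGroup p H).to_le hYT) hYn hLH ?_
    rw [GenNormAb]
    conv_lhs => rw [← puig_def]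
    exact puigSucc_le_iff.2 fun A b1 b2 b3 => le_sSup
      ⟨puig_def S ▸ le_puigSucc b1 b2 b3, hS.isPGroup.to_le b1, b2, hYL.trans b3⟩
  have e1 : puig (C ⊓ S) = puig S := sub_Puig_eq inf_le_right (le_inf hLC (puig_le S))
  have hCS := hS.normal_inf c2
  have e2 : C ≤ C ⊓ S ⊔ H ⊓ 𝐂(Y) := by
    rw [← quo_le_quo_iff_le_sup (c2.le.trans hCn.norm) (inf_le_left.trans (c2.le.trans hCn.norm)),
      (hCS.quo (c2.le.trans hCn.norm)).eq_self (c3 ▸ Op_isPGroup p _)]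
  have e3 : 𝐍(C ⊓ S) ≤ 𝐍(Zc (puig S)) := e1 ▸ norm_le_norm_center_puig _
  refine ⟨(Zc_le _).trans hLH, ?_⟩
  rw [← (hCS.frattini c2).sup_eq]
  exact sup_le (e2.trans (sup_le ((le_norm_self _).trans e3)
    (inf_le_right.trans ((cent_anti hZY).trans (cent_le_norm _))))) (inf_le_right.trans e3)

theorem factorisation [Fact p.Prime] (ho : Stb p H) (hS : Syl p S H) :
    Op' p H ⊔ H ⊓ 𝐍(Zc (puig S)) = H := by
  have hD := Opi_normal ({p} : Set ℕ)ᶜ H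
  have hSD := hS.le.trans hD.norm
  have hi : Op' p H ⊓ S = ⊥ := (Op'_piGrp p H).inf_eq_bot' hS.piGrp
  have hL := (puig_le S).trans hSD
  have h1 := center_normal (ho.quo _) (hS.quo hD.norm) (Opi_quo_Opi _ H)
  have hi' : Op' p H ⊓ puig S = ⊥ := eq_bot_iff.2 ((inf_le_inf_left _ (puig_le S)).trans hi.le)
  rw [← quo_puig hSD hi, Zc, ← quo_inf_cent_of_norm hL (le_norm_self _) (by simp [hi'])
    (Or.inl (by rw [hi']; exact sol_bot))] at h1
  have hZS := (Zc_le (puig S)).trans (puig_le S)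
  have h2 : Zc (puig S) ⊔ Op' p H ⊴ H :=
    ⟨sup_le (hZS.trans hS.le) hD.le, le_norm_sup_of_quo hD.norm (hZS.trans hSD) h1.norm⟩
  have h3 : Syl p (Zc (puig S)) (Zc (puig S) ⊔ Op' p H) :=
    (((IsSdprod.of_sup (hZS.trans hSD) (eq_bot_iff.2 ((inf_le_inf_left _ hZS).trans hi.le))).hall_right
      (Op'_piGrp p H) (hS.piGrp.of_le hZS)).syl).mono le_sup_left (sup_comm _ _).le
  refine le_antisymm (sup_le hD.le inf_le_left) ?_
  conv_lhs => rw [← (h3.frattini h2).sup_eq]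
  exact sup_le (sup_le (le_sup_of_le_right (le_inf (hZS.trans hS.le) (le_norm_self _))) le_sup_left)
    le_sup_right


theorem ZL_le (D : Subgroup G) : Zc (puig D) ≤ D := (Zc_le _).trans (puig_le D)

theorem ZL_conj (g : G) (D : Subgroup G) : Zc (puig (g •ᶜ D)) = g •ᶜ Zc (puig D) := by
  rw [puig_conj, Zc_conj]

/-- `g⁻¹ c h ∈ N` for some `c` centralizing `A` -/
def Rel (N A : Subgroup G) (g h : G) : Prop := ∃ c ∈ 𝐂(A), g⁻¹ * c * h ∈ N

theorem Rel.symm {N : Subgroup G} {g h : G} (H : Rel N A g h) : Rel N A h g := by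
  obtain ⟨c, h1, h2⟩ := H
  exact ⟨c⁻¹, inv_mem h1, by convert inv_mem h2 using 1; group⟩

theorem Rel.trans {N : Subgroup G} {g h k : G} (H : Rel N A g h) (H' : Rel N A h k) :
    Rel N A g k := by
  obtain ⟨c, h1, h2⟩ := H
  obtain ⟨d, h3, h4⟩ := H'
  exact ⟨c * d, mul_mem h1 h3, by convert mul_mem h2 h4 using 1; group⟩

theorem Rel.mono {N : Subgroup G} {g h : G} (H : Rel N X g h) (hA : A ≤ X) : Rel N A g h := by
  obtain ⟨c, h1, h2⟩ := H
  exact ⟨c, cent_anti hA h1, h2⟩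

/-- fusion in `H` is controlled by `N_H(ZL(R))` -/
theorem exists_cent_mul [Fact p.Prime] (ho : Stb p H) {R : Subgroup G} (hR : Syl p R H) {n : G}
    (hn : n ∈ H) (h1 : A ≤ R) (h2 : A ≤ n •ᶜ R) :
    ∃ c ∈ 𝐂(A), ∃ m ∈ 𝐍(Zc (puig R)), n = c * m := by
  have hO := Opi_normal ({p} : Set ℕ)ᶜ H
  set O := Op' p H
  set N := H ⊓ 𝐍(Zc (puig R))
  have hRN : R ≤ N := le_inf hR.le ((le_norm_self R).trans (norm_le_norm_center_puig R))
  obtain ⟨o, h3, m, h4, rfl⟩ := (mem_sup_norm_left (inf_le_left.trans hO.norm)).1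
    ((factorisation ho hR).ge hn)
  have hAp := hR.isPGroup.to_le h1
  have hAO : A ≤ 𝐍(O) := h1.trans (hR.le.trans hO.norm)
  have hA1 : A ≤ 𝐍(O ⊓ N) := le_norm_inf hAO (le_norm_of_le (h1.trans hRN))
  have h5 : o⁻¹ •ᶜ A ≤ N := by
    rw [← conj_conj, le_conj_iff_inv_conj_le] at h2
    exact h2.trans (conj_le_of_mem h4 hRN)
  have h6 : o⁻¹ •ᶜ A ≤ (O ⊓ N) ⊔ A := by
    rw [conj_le_iff]
    intro a ha
    rw [show o⁻¹ * a * o⁻¹⁻¹ = (o⁻¹ * a * o⁻¹⁻¹ * a⁻¹) * a by group]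
    refine mul_mem_sup (mem_inf.2 ⟨?_, mul_mem (conj_le_iff.1 h5 a ha) (N.inv_mem (hRN (h1 ha)))⟩) ha
    rw [inv_inv, mul_assoc, mul_assoc, ← mul_assoc a]
    exact O.mul_mem (O.inv_mem h3) (conj_mem_of_norm (hAO ha) h3)
  have hp' : PiGrp ({p} : Set ℕ)ᶜ (O ⊓ N) := (Op'_piGrp p H).inf_left _
  have hc := coprime_of_isPGroup hAp (Op'_piGrp p H)
  have h7 : Syl p A ((O ⊓ N) ⊔ A) := ((IsSdprod.of_coprime hA1
    (coprime_of_isPGroup hAp hp').symm).hall_right hp' (piGrp_singleton hAp)).syl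
  obtain ⟨x, hx, h8⟩ := h7.exists_le_conj' h6 (isPGroup_conj.2 hAp)
  obtain ⟨y, hy, a, ha, rfl⟩ := (mem_sup_norm_left hA1).1 hx
  rw [← conj_conj, conj_eq_of_mem ha, le_conj_iff_inv_conj_le, conj_conj, ← mul_inv_rev] at h8
  have h9 : o * y ∈ 𝐂(A) := le_cent_of_coprime (A := O ⊓ 𝐍(A)) inf_le_right
    (le_norm_inf hAO (le_norm_of_le (le_norm_self A))) (coprime_card_mono hc.symm inf_le_left le_rfl)
    (mem_inf.2 ⟨mul_mem h3 hy.1, inv_mem_iff.1 (mem_norm_of_conj_le h8)⟩)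
  exact ⟨_, h9, y⁻¹ * m, mul_mem (Subgroup.inv_mem _ hy.2.2) h4.2, by group⟩

theorem rel_of_le [Fact p.Prime] (hs : ∀ Y : Subgroup G, IsPGroup p Y → Y ≠ ⊥ → Stb p 𝐍(Y))
    (hP : Syl p P ⊤) : ∀ (k : ℕ) (A : Subgroup G), Nat.card G - ♯A = k → A ≠ ⊥ → ∀ g h : G,
      A ≤ g •ᶜ P → A ≤ h •ᶜ P → Rel 𝐍(Zc (puig P)) A g h := by
  intro k
  induction k using Nat.strong_induction_on with
  | _ k ih =>
  intro A hk hA
  have hle : ∀ X : Subgroup G, ♯X ≤ Nat.card G := fun X => card_top (G := G) ▸ card_le le_top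
  have ih' : ∀ X : Subgroup G, A < X → ∀ g h : G, X ≤ g •ᶜ P → X ≤ h •ᶜ P →
      Rel 𝐍(Zc (puig P)) X g h := fun X hX =>
    ih _ (by have := card_lt hX; have := hle X; omega) X rfl (ne_bot_of_gt hX)
  have hPg : ∀ g : G, Syl p (g •ᶜ P) ⊤ := fun g => hP.conj_of_mem (mem_top g)
  have key : ∀ (l : ℕ) (R : Subgroup G), Nat.card G - ♯R = l → A < R → ∀ Y : Subgroup G,
      IsPGroup p Y → Y ≠ ⊥ → Syl p R 𝐍(Y) → ∀ g n : G, R ≤ g •ᶜ P → n ∈ 𝐍(Y) → A ≤ n •ᶜ R →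
      Rel 𝐍(Zc (puig P)) A g (n * g) := by
    intro l
    induction l using Nat.strong_induction_on with
    | _ l ihl =>
    intro R hl hAR Y hY hY0 hR g n hg hn h1
    obtain ⟨c, hc, m, hm, rfl⟩ := exists_cent_mul (hs Y hY hY0) hR hn hAR.le h1
    have h2 : A ≤ m •ᶜ R := by
      rwa [← conj_conj, le_conj_iff_inv_conj_le, conj_eq_of_mem_cent (inv_mem hc)] at h1
    refine Rel.trans (h := m * g) ?_ ⟨c⁻¹, inv_mem hc, by group; exact one_mem _⟩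
    rcases hg.eq_or_lt with e | e
    · refine ⟨1, one_mem _, ?_⟩
      rw [e, ZL_conj, norm_conj, mem_conj] at hm
      simpa [mul_assoc] using hm
    have h3 := lt_inf_norm_of_nil (hPg g).nil e
    obtain ⟨R', hR', h4⟩ := exists_syl_ge (inf_le_right.trans (norm_le_norm_center_puig R))
      ((hPg g).isPGroup.to_le inf_le_left : IsPGroup p (g •ᶜ P ⊓ 𝐍(R) : Subgroup G))
    obtain ⟨g', -, h5⟩ := hP.exists_le_conj' le_top hR'.isPGroup
    have h6 := h3.trans_le h4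
    obtain ⟨c1, h7, h8⟩ := ih' R hAR g g' hg (h6.le.trans h5)
    have h9 := ihl _ (by have := card_lt h6; have := hle R'; omega) R' rfl (hAR.trans h6) _
      (hR.isPGroup.to_le (ZL_le R))
      (fun e => ne_bot_of_gt hAR (trivg_center_Puig_pgroup hR.isPGroup e)) hR' g' m h5 hm
      (h2.trans (conj_mono m h6.le))
    refine (Rel.trans ⟨c1, cent_anti hAR.le h7, h8⟩ h9).trans (Rel.symm ⟨m * c1 * m⁻¹,
      cent_anti h2 (by rw [cent_conj]; exact conj_mem_conj h7), ?_⟩)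
    convert h8 using 1; group
  intro g h hg hh
  rcases hg.eq_or_lt with e | e
  · refine ⟨1, one_mem _, norm_le_norm_center_puig P ?_⟩
    have := (hPg g).eq_of_le_syl (hPg h) (e ▸ hh)
    rw [← conj_eq_self_iff, mul_one, ← conj_conj, ← this, conj_conj]; simp
  have e' : A < h •ᶜ P := lt_of_le_of_ne hh fun e' => e.ne ((e' ▸ hPg h).eq_of_le_syl (hPg g) hg)
  have h1 := lt_inf_norm_of_nil (hPg g).nil e
  have h2 := lt_inf_norm_of_nil (hPg h).nil e'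
  obtain ⟨R, hR, h3⟩ := exists_syl_ge (inf_le_right : g •ᶜ P ⊓ 𝐍(A) ≤ _)
    ((hPg g).isPGroup.to_le inf_le_left)
  obtain ⟨g1, -, h4⟩ := hP.exists_le_conj' le_top hR.isPGroup
  obtain ⟨n, hn, h5⟩ := hR.exists_le_conj' (inf_le_right : h •ᶜ P ⊓ 𝐍(A) ≤ _)
    ((hPg h).isPGroup.to_le inf_le_left)
  refine (((ih' _ h1 g g1 inf_le_left (h3.trans h4)).mono h1.le).trans
    (key _ R rfl (h1.trans_le h3) A ((hPg g).isPGroup.to_le hg) hA hR g1 n h4 hn
      (h2.le.trans h5))).trans ((ih' _ h2 _ h (h5.trans ?_) inf_le_left).mono h2.le)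
  rw [← conj_conj]; exact conj_mono n h4

/-- `N(ZL(P))` controls strong fusion in `P` if the `p`-locals are solvable and `p`-stable -/
theorem control [Fact p.Prime] (hs : ∀ Y : Subgroup G, IsPGroup p Y → Y ≠ ⊥ → Stb p 𝐍(Y))
    (hP : Syl p P ⊤) (hA : A ≤ P) {g : G} (hg : g •ᶜ A ≤ P) :
    ∃ n ∈ 𝐍(Zc (puig P)), ∀ a ∈ A, g * a * g⁻¹ = n * a * n⁻¹ := by
  by_cases h0 : A = ⊥
  · exact ⟨1, one_mem _, fun a ha => by rw [h0, mem_bot] at ha; simp [ha]⟩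
  obtain ⟨c, h1, h2⟩ := rel_of_le hs hP _ A rfl h0 g⁻¹ 1 (conj_le_iff_le_inv_conj.1 hg) (by simpa)
  refine ⟨_, h2, fun a ha => ?_⟩
  rw [← mem_cent_iff_conj.1 h1 a ha]
  nth_rw 2 [mem_cent_iff_conj.1 h1 a ha]
  group

/-- `N(ZL(P))` controls transfer -/
theorem inf_der_le [Fact p.Prime] (hs : ∀ Y : Subgroup G, IsPGroup p Y → Y ≠ ⊥ → Stb p 𝐍(Y))
    (hP : Syl p P ⊤) : P ⊓ der ⊤ ≤ der 𝐍(Zc (puig P)) := by
  rw [focal_subgroup_gen hP, closure_le]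
  rintro _ ⟨x, hx, g, -, h1, rfl⟩
  obtain ⟨n, hn, h2⟩ := control hs hP (zpowers_le.2 hx) (g := g) (by rwa [conj_zpowers, zpowers_le])
  rw [h2 x (mem_zpowers x)]
  have := commutator_mem_commutator (inv_mem ((le_norm_self P).trans (norm_le_norm_center_puig P) hx)) hn
  simpa [commutatorElement_def, mul_assoc] using this

end Cfsg.Agent.ZL
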