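import Cfsg.Agent.Lib.ZL.SEA
import Cfsg.Agent.Lib.ZL.Puig
import Cfsg.Agent.Lib.Coprime.IndexBound

/-!
# Strongly embedded subgroups: elementary facts; groups with nilpotent `p'`-subgroups are solvable
-/

set_option autoImplicit false
set_option linter.unusedSectionVars false

namespace Cfsg.Agent.ZL

open Subgroup Cfsg.Agent.Coprime Cfsg.Agent.OO Cfsg.Agent.ZN
open scoped Pointwise commutatorElement

universe u v

variable {G : Type u} [Group G] [Finite G] {A B D E H K L M N P Q R S T U V W X Y : Subgroup G}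
  {p : ℕ} {a b c g k s t u w x y z : G}

theorem exists_swap (ha : a * a = 1) (hb : b * b = 1) (h : ¬ 2 ∣ orderOf (a * b)) :
    ∃ w, w * w = 1 ∧ w * b * w⁻¹ = a := by
  obtain ⟨j, hj⟩ := R1.exists_conj_of_odd ha hb h
  have e : b * (a * b) * b⁻¹ = (a * b)⁻¹ := by
    rw [mul_inv_rev, inv_eq_of_mul_eq_one_right ha, inv_eq_of_mul_eq_one_right hb, ← mul_assoc,
      mul_assoc, hb, mul_one]
  refine ⟨(a * b) ^ j * b, ?_, by nth_rw 3 [← hj]; group⟩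
  calc _ = (a * b) ^ j * (b * (a * b) * b⁻¹) ^ j * (b * b) := by rw [conj_pow]; group
    _ = 1 := by rw [e, hb, inv_pow]; group

namespace SE

theorem mem (h : SE M) (ht : t ∈ M) (h2 : orderOf t = 2) (hg : g * t * g⁻¹ ∈ M) : g ∈ M := by
  by_contra e
  exact h.odd g e (((orderOf_conj g t).trans h2) ▸ orderOf_dvd_card (H := M ⊓ g •ᶜ M)
    ⟨hg, conj_mem_conj ht⟩)

theorem cent_le (h : SE M) (ht : t ∈ M) (h2 : orderOf t = 2) : 𝐂[t] ≤ M := fun _ hg =>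
  h.mem ht h2 ((mem_cent1_iff_conj.1 hg).symm ▸ ht)

theorem norm_le (h : SE M) (hT : T ≤ M) (h2 : 2 ∣ ♯T) : 𝐍(T) ≤ M := fun _ hg => by
  obtain ⟨t, ht, ht2⟩ := cauchy Nat.prime_two h2
  exact h.mem (hT ht) ht2 (hT (conj_mem_of_norm hg ht))

theorem syl (h : SE M) (hS : Syl 2 S M) : Syl 2 S ⊤ :=
  .of_syl_norm le_top (hS.mono (le_inf le_top (le_norm_self S))
    (inf_le_right.trans (h.norm_le hS.le (hS.dvd_card_iff.2 h.even))))

theorem le_of_two (h : SE M) (hT : IsPGroup 2 T) (ht : t ∈ T) (hM : t ∈ M) (h2 : orderOf t = 2) :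
    T ≤ M := by
  obtain ⟨z, hz, hz2⟩ := cauchy Nat.prime_two (dvd_card_of_isPGroup (hT.to_le (Zc_le T))
    (Zc_ne_bot (nil_of_isPGroup hT) fun e => ne_one_of_inv h2 (by simpa [e] using ht)))
  exact (le_cent1_iff.2 hz.2).trans (h.cent_le (h.cent_le hM h2 (cent_le_cent1 ht hz.2)) hz2)

theorem le_of_four (h : SE M) (hs : Sol X) (hV : IsElementaryAbelian 2 V) (h4 : 2 < ♯V)
    (h1 : V ≤ X) (h2 : V ≤ M) : X ≤ M := by
  obtain ⟨T, hT, h3⟩ := exists_syl_ge h1 (abelem_isPGroup hV)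
  obtain ⟨t, ht, ht1⟩ := exists_mem_ne_one (H := V) fun e => by simp [e] at h4
  have h5 := h.le_of_two hT.isPGroup (h3 ht) (h2 ht) (inv_of_abelem hV ht ht1)
  refine le_of_hyperplanes _ rfl hs hT h3 hV fun R hR hc => inf_le_right.trans
    (h.norm_le (hR.trans h5) (dvd_card_of_isPGroup (hT.isPGroup.to_le hR) fun e => ?_))
  simp [e] at hc
  omega

theorem odd_mul (h : SE M) (hs : s ∈ M) (hs2 : orderOf s = 2) (hu : u ∉ M) (hu2 : orderOf u = 2) :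
    ¬ 2 ∣ orderOf (u * s) := fun ⟨m, hm⟩ => by
  have h1 := R1.commute_of_pow_sq (mul_self_of_inv hu2) (mul_self_of_inv hs2)
    (hm ▸ pow_orderOf_eq_one (u * s))
  have h0 := orderOf_pos (u * s)
  have h2 : orderOf ((u * s) ^ m) = 2 := inv_of_sq (by
    rw [← pow_mul, mul_comm m, ← hm, pow_orderOf_eq_one]) (pow_ne_one_of_lt_orderOf (by omega) (by omega))
  have h3 := h.cent_le (h.cent_le hs hs2 (mem_cent1.2 h1.eq)) h2
    (mem_cent1.2 (Commute.self_pow (u * s) m).eq)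
  exact hu ((M.mul_mem_cancel_right hs).1 h3)

theorem exists_swap (h : SE M) (hs : s ∈ M) (hs2 : orderOf s = 2) (hu : u ∉ M)
    (hu2 : orderOf u = 2) : ∃ w ∉ M, orderOf w = 2 ∧ w * s * w⁻¹ = u := by
  obtain ⟨w, h1, h2⟩ := ZL.exists_swap (mul_self_of_inv hu2) (mul_self_of_inv hs2)
    (h.odd_mul hs hs2 hu hu2)
  have h3 : w ∉ M := fun e => hu (h2 ▸ mul_mem (mul_mem e hs) (inv_mem e))
  exact ⟨w, h3, inv_of_sq (pow_two w ▸ h1) fun e => h3 (e ▸ one_mem M), h2⟩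

theorem exists_out (h : SE M) : ∃ w ∉ M, orderOf w = 2 := by
  obtain ⟨t, ht, ht2⟩ := cauchy Nat.prime_two h.even
  obtain ⟨g, -, hg⟩ := SetLike.exists_of_lt (lt_top_iff_ne_top.2 h.ne)
  exact ⟨_, fun e => hg (h.mem ht ht2 e), (orderOf_conj g t).trans ht2⟩

/-- `M ∩ M^w` is transitive on the involutions of `M`, through elements inverted by `w` -/
theorem exists_conj (h : SE M) (hw : w ∉ M) (hw2 : orderOf w = 2) (hs : s ∈ M) (hs2 : orderOf s = 2)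
    (ht : t ∈ M) (ht2 : orderOf t = 2) :
    ∃ k ∈ M ⊓ w •ᶜ M, w * k * w⁻¹ = k⁻¹ ∧ k * s * k⁻¹ = t := by
  obtain ⟨v, -, h1, h2⟩ := h.exists_swap hs hs2 (fun e => hw (h.mem ht ht2 e))
    ((orderOf_conj w t).trans ht2)
  have e1 := inv_eq_of_inv hw2
  have h3 : w * v * s * (w * v)⁻¹ = t := by
    rw [show w * v * s * (w * v)⁻¹ = w * (v * s * v⁻¹) * w⁻¹ by group, h2]
    nth_rw 1 [← e1]; nth_rw 3 [e1]; group
  have h4 := h.mem hs hs2 (h3 ▸ ht)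
  have h5 : w * (w * v) * w⁻¹ = (w * v)⁻¹ := by
    rw [mul_inv_rev, inv_eq_of_inv h1, ← mul_assoc, mul_self_of_inv hw2, one_mul]
  refine ⟨w * v, ⟨h4, OO.mem_conj.2 ?_⟩, h5, h3⟩
  rw [show w⁻¹ * (w * v) * w = (w⁻¹ * v⁻¹)⁻¹ by group, e1, inv_eq_of_inv h1]
  exact inv_mem h4

end SE

theorem eq_one_of_pow_add_one {p a n : ℕ} (hp : ¬ 2 ∣ p) (h3 : 1 < p) (h : p ^ a + 1 = 2 ^ n)
    (ha : a ≠ 0) : a = 1 := by
  obtain ⟨b, rfl | rfl⟩ := Nat.even_or_odd' a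
  · have h1 : (p ^ b) ^ 2 % 4 = 1 := by
      have : p ^ b % 2 = 1 := Nat.odd_iff.1 ((Nat.odd_iff.2 (by omega)).pow)
      obtain h | h : p ^ b % 4 = 1 ∨ p ^ b % 4 = 3 := by omega
      all_goals simp [Nat.pow_mod, h]
    have h2 := Nat.one_lt_pow ha h3
    rw [pow_mul'] at h h2
    rcases n with _ | _ | n
    all_goals omega
  have key : ∀ b : ℕ, ∃ c : ℤ, Odd c ∧ (p : ℤ) ^ (2 * b + 1) + 1 = (p + 1) * c := fun b => by
    obtain ⟨q, rfl⟩ : ∃ q, p = 2 * q + 1 := ⟨p / 2, by omega⟩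
    induction b with
    | zero => exact ⟨1, odd_one, by simp⟩
    | succ b ih =>
      obtain ⟨c, ⟨d, rfl⟩, e⟩ := ih
      refine ⟨_, ⟨(2 * q + 1) ^ 2 * d + 2 * q ^ 2 + q, rfl⟩, ?_⟩
      push_cast at e ⊢
      linear_combination (2 * q + 1) ^ 2 * e
  obtain ⟨c, h1, h2⟩ := key b
  have h4 : c.natAbs ∣ 2 ^ n := by
    rw [← h, ← Int.natCast_dvd_natCast, Int.natAbs_dvd]
    exact ⟨p + 1, by push_cast; rw [h2, mul_comm]⟩
  have h5 := ((Nat.coprime_two_right.2 h1.natAbs).pow_right n).eq_one_of_dvd h4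
  have h6 : p ^ (2 * b + 1) ≤ p ^ 1 := by
    rcases Int.natAbs_eq_iff.1 h5 with rfl | rfl <;> zify <;> push_cast at h2 <;> nlinarith
  have := (Nat.pow_le_pow_iff_right h3).1 h6
  omega

theorem NH.mem_cent_of_fix (h : NH G p) (hT : IsPGroup 2 T) (hx : x ∈ 𝐍(T)) (hx' : PiElt {p} x)
    (hc : ♯T < p + ♯(T ⊓ 𝐂[x])) : x ∈ 𝐂(T) := by
  haveI := Fact.mk h.prime
  have h3 := Coprime.card_modEq_card_inf_centralizer (isPGroup_zpowers_iff.2 hx') (zpowers_le.2 hx)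
  rw [cent_zpowers] at h3
  have h4 := card_le (inf_le_left : T ⊓ 𝐂[x] ≤ T)
  have h6 := Nat.eq_zero_of_dvd_of_lt ((Nat.modEq_iff_dvd' h4).1 h3.symm) (by omega)
  exact le_cent1_iff.1 (inf_eq_left.1 (eq_of_le_of_card_le inf_le_left (by omega)))

/-- transitive action on the involutions of an elementary abelian 2-group -/
theorem NH.trans (h : NH G p) (hE : IsElementaryAbelian 2 E) (h2 : 2 < ♯E) (hL : L ≤ 𝐍(E))
    (hS : Syl 2 S L) (hz : z ∈ E) (h1 : z ≠ 1) (hzS : z ∈ 𝐂(S))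
    (tr : ∀ v ∈ E, v ≠ 1 → ∃ l ∈ L, v = l * z * l⁻¹) :
    (𝐂(E)).relIndex L = p ∧ L ⊓ 𝐂[z] ≤ 𝐂(E) := by
  haveI := Fact.mk h.prime
  have hE2 := abelem_isPGroup hE
  have h3 : (𝐂[z]).relIndex L = ♯E - 1 := by
    rw [relIndex_centralizer_eq_ncard, ← ncard_sharp]
    congr 1
    refine Set.ext fun v => ⟨?_, fun hv => tr v hv.1 hv.2⟩
    rintro ⟨l, hl, rfl⟩
    exact conj_mem_sharp (hL hl) ⟨hz, h1⟩
  have h4 : IsPiNum {p} ((𝐂[z]).relIndex L) := fun r hr hd => by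
    by_contra e
    haveI := Fact.mk hr
    have : ∀ R, Syl r R L → ¬ R ≤ 𝐂[z] := fun R hR e' => hR.not_dvd
      (hd.trans (relIndex_dvd_of_le_left L e'))
    by_cases e2 : r = 2
    · exact this S (e2 ▸ hS) (le_cent1_iff.2 hzS)
    · obtain ⟨R, hR⟩ := exists_syl r L
      exact this R hR fun x hx => cent_le_cent1 hz
        (h.mem_cent hE2 (hL (hR.le hx)) hr e2 e (hR.piGrp.piElt hx))
  obtain ⟨a, ha⟩ : ∃ a, (𝐂[z]).relIndex L = p ^ a :=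
    ⟨_, (partn_eq_self (relIndex_pos _ _).ne' h4).symm.trans
      (partn_singleton h.prime (relIndex_pos _ _).ne')⟩
  obtain ⟨n, hn⟩ := hE2.exists_card_eq
  have hp := h.five
  obtain rfl : a = 1 := eq_one_of_pow_add_one (n := n) (fun e => by
    have := (Nat.prime_dvd_prime_iff_eq Nat.prime_two h.prime).1 e; omega) h.prime.one_lt
    (by omega) (by rintro rfl; rw [pow_zero] at ha; omega)
  rw [pow_one] at ha
  have h5 : S ≤ 𝐂(E) := fun s hs => by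
    by_contra e
    obtain ⟨j, h5, h6⟩ := PGrp.exists_pow_not_mem_pow_mem hS.isPGroup (U := (𝐂(E)).subgroupOf S)
      (g := ⟨s, hs⟩) e
    have h7 := hS.le (pow_mem hs (2 ^ j))
    refine h5 (le_cent1_iff.1 fun v hv => ?_)
    by_cases e : v = 1
    · exact e ▸ one_mem _
    obtain ⟨l, hl, rfl⟩ := tr v hv e
    refine mem_cent1_comm.1 (sup_le ?_ (cent_le_cent1 hv) (Core.mem_sup_of_forall_pResidualOf_le
      (le_norm_cent hL) (hS.conj_of_mem hl) h7 fun g hg => ?_))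
    · rw [cent1_conj]; exact conj_mono l (le_cent1_iff.2 hzS)
    refine (h.dih hE (hL h7) (hL (mul_mem (mul_mem hg h7) (inv_mem hg))) h6 ?_).resolve_right ?_
    · rw [conj_pow]; exact conj_mem_of_norm (le_norm_cent hL hg) h6
    · rintro ⟨m, h8, h9, h10⟩
      have : m ^ 2 ≤ m + 2 := by omega
      nlinarith
  have h6 : L ⊓ 𝐂[z] ≤ 𝐂(E) := fun x hx => mem_of_forall_constt_mem fun r hr _ => by
    have h7 := constt_mem {r} hx
    have h8 := piElt_constt {r} x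
    by_cases e : r = 2
    · obtain ⟨g, hg, h9⟩ := hS.exists_le_conj' (zpowers_le.2 h7.1) (isPGroup_zpowers_iff.2 (e ▸ h8))
      exact conj_le_of_mem_norm (le_norm_cent hL hg) h5 (h9 (mem_zpowers _))
    by_cases e' : r = p
    · refine h.mem_cent_of_fix hE2 (hL h7.1) (e' ▸ h8) ?_
      have := one_lt_card (H := E ⊓ 𝐂[constt {r} x]) fun e =>
        h1 (mem_bot.1 (e ▸ mem_inf.2 ⟨hz, mem_cent1_comm.1 h7.2⟩))
      omega
    · exact h.mem_cent hE2 (hL h7.1) hr e e' h8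
  refine ⟨?_, h6⟩
  rw [← ha, ← inf_relIndex_left L 𝐂[z], ← inf_relIndex_left L,
    le_antisymm (le_inf inf_le_left h6) (inf_le_inf_left L (cent_le_cent1 hz))]

theorem NH.piElt_of_inv (h : NH G p) (hw : orderOf w = 2) (hx : ¬ 2 ∣ orderOf x)
    (e : w * x * w⁻¹ = x⁻¹) : PiElt {p} x := by
  rw [← compl_compl ({p} : Set ℕ), ← constt_eq_one_iff]
  have h1 : w * constt {p}ᶜ x * w⁻¹ = (constt {p}ᶜ x)⁻¹ := by rw [← constt_conj, e, constt_inv]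
  have h2 : ¬ 2 ∣ orderOf (constt {p}ᶜ x) := fun e =>
    hx (e.trans (orderOf_dvd_of_mem_zpowers (constt_mem_zpowers _ _)))
  have h3 := piElt_constt {p}ᶜ x
  generalize constt {p}ᶜ x = y at h1 h2 h3
  have h4 := h.le_cent (h.not_dvd_two (isPGroup_zpowers_inv hw))
    ((piGrp_zpowers.2 h3).not_dvd h.prime fun e => e rfl) (zpowers_le.2 (mem_norm_of_conj_le (by
      rw [conj_zpowers, h1, zpowers_inv]))) (by
      rw [Nat.card_zpowers, Nat.card_zpowers, hw]; exact (Nat.Prime.coprime_iff_not_dvd Nat.prime_two).2 h2)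
    (mem_zpowers w)
  have h5 : y ^ 2 = 1 := by
    rw [pow_two]; nth_rw 1 [← mem_cent_iff_conj.1 h4 y (mem_zpowers y), h1, inv_mul_cancel]
  by_contra e
  exact h2 (inv_of_sq h5 e).symm.dvd

theorem MC.two_lt (h : MC G p) (hS : Syl 2 S ⊤) (hz : z ∈ 𝐂(S)) (h2 : orderOf z = 2) (hzE : z ∈ E)
    (hE : ∀ t ∈ S, orderOf t = 2 → t ∈ E) : 2 < ♯E := by
  obtain ⟨g, hg, hg'⟩ := h.zst hS hz h2
  have h3 := (orderOf_conj g z).trans h2
  have := card_lt (lt_of_le_not_ge (zpowers_le.2 hzE) fun e =>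
    ((mem_zpowers_inv h2).1 (e (hE _ hg h3))).elim (ne_one_of_inv h3) hg')
  rwa [Nat.card_zpowers, h2] at this

theorem MC.case_one (h : MC G p) (hM : SE M) (h0 : Op 2 M = ⊥) : False := by
  haveI := Fact.mk h.prime
  have hs := h.sol M hM.ne
  obtain ⟨S, hS⟩ := exists_syl 2 M
  have hQ := hS.inf_normal (Op'p_normal 2 M)
  have hSQ : S ≤ 𝐍(S ⊓ Op'p 2 M) :=
    le_norm_inf (le_norm_self S) (hS.le.trans (Op'p_normal 2 M).norm)
  have hc := solvable_p_constrained 2 hs _ hQ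
  have hQS : ∀ t ∈ S, t ∈ Op'p 2 M → t ∈ S ⊓ Op'p 2 M := fun t h1 h2 => ⟨h1, h2⟩
  have hQS' : S ⊓ Op'p 2 M ≤ S := inf_le_left
  generalize S ⊓ Op'p 2 M = Q at hQ hSQ hc hQS hQS'
  obtain ⟨z, hz, hz2⟩ := cauchy Nat.prime_two (dvd_card_of_isPGroup
    (hS.isPGroup.to_le (Zc_le S)) (Zc_ne_bot hS.nil (hS.ne_bot hM.even)))
  have hzQ := hc ⟨hS.le hz.1, cent_anti hQS' hz.2⟩
  have hzE : z ∈ Ohm 2 (Zc Q) :=
    mem_Ohm (mem_inf.2 ⟨hQS z hz.1 hzQ, cent_anti hQS' hz.2⟩) (sq_of_inv hz2)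
  have hE := Ohm_abelem 2 (Zc_ab Q)
  have hEQ := (Ohm_le 2 _).trans (Zc_le Q)
  have hNE := (norm_le_norm_Zc Q).trans (norm_le_norm_Ohm 2 _)
  generalize Ohm 2 (Zc Q) = E at hzE hE hEQ hNE
  have hO := Opi_normal {2}ᶜ M
  have hQL : Q ≤ M ⊓ 𝐍(Q) := le_inf (hQS'.trans hS.le) (le_norm_self Q)
  have hML : Op' 2 M ⊔ M ⊓ 𝐍(Q) = M := by
    nth_rw 3 [← (hQ.frattini (Op'p_normal 2 M)).sup_eq]
    rw [← (sdprod_Op'p hQ).sup_eq, sup_assoc, sup_eq_right.2 hQL]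
  have hLE := (inf_le_right : M ⊓ 𝐍(Q) ≤ _).trans hNE
  have hLO := (inf_le_left : M ⊓ 𝐍(Q) ≤ _).trans hO.norm
  have hSL : S ≤ M ⊓ 𝐍(Q) := le_inf hS.le hSQ
  have hOL : Op' 2 M ⊓ (M ⊓ 𝐍(Q)) ≤ 𝐂(E) := (le_cent_of_coprime (inf_le_right.trans inf_le_right)
    (le_norm_inf (hQL.trans hLO) (le_norm_of_le hQL)) (coprime_of_isPGroup hQ.isPGroup
      ((Op'_piGrp 2 M).inf_left _)).symm).trans (cent_anti hEQ)
  have hLM : M ⊓ 𝐍(Q) ≤ M := inf_le_left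
  generalize M ⊓ 𝐍(Q) = L at hML hLE hLO hSL hOL hLM
  obtain ⟨w, hw, hw2⟩ := hM.exists_out
  have tr : ∀ t ∈ S, orderOf t = 2 → ∃ l ∈ L, t = l * z * l⁻¹ := fun t ht ht2 => by
    obtain ⟨k, hk, -, rfl⟩ := hM.exists_conj hw hw2 (hS.le hz.1) hz2 (hS.le ht) ht2
    obtain ⟨o, ho, l, hl, rfl⟩ := (mem_sup_norm_left hLO).1 (hML.ge hk.1)
    have h1 := hEQ (conj_mem_of_norm (hLE hl) hzE)
    have h2 : o * l * z * (o * l)⁻¹ * (l * z * l⁻¹)⁻¹ ∈ Op' 2 M ⊓ Q := mem_inf.2 ⟨by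
      rw [show o * l * z * (o * l)⁻¹ * (l * z * l⁻¹)⁻¹ =
        o * (l * z * l⁻¹ * o⁻¹ * (l * z * l⁻¹)⁻¹) by group]
      exact mul_mem ho (hO.conj_mem (hS.le (hQS' h1)) (inv_mem ho)),
      mul_mem (hQS _ ht ((Op'p_normal 2 M).conj_mem hk.1 hzQ)) (inv_mem h1)⟩
    rw [(Op'_piGrp 2 M).inf_eq_bot' hQ.piGrp, mem_bot, mul_inv_eq_one] at h2
    exact ⟨l, hl, h2⟩
  have h2 := h.two_lt (hM.syl hS) hz.2 hz2 hzE fun t ht ht2 => by
    obtain ⟨l, hl, rfl⟩ := tr t ht ht2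
    exact conj_mem_of_norm (hLE hl) hzE
  have h3 := (h.toNH.trans hE h2 hLE (hS.mono hSL hLM) hzE (ne_one_of_inv hz2) hz.2 fun v hv h1 =>
    tr v (hQS' (hEQ hv)) (inv_of_abelem hE hv h1)).1
  have hLN : L ≤ 𝐍(Op' 2 M ⊔ L ⊓ 𝐂(E)) := le_norm_sup hLO (normalIn_inf_cent hLE).norm
  have hN : (Op' 2 M ⊔ L ⊓ 𝐂(E)) ⊴ M := ⟨sup_le hO.le (inf_le_left.trans hLM),
    hML.ge.trans (sup_le (le_norm_of_le le_sup_left) hLN)⟩
  have h4 : (Op' 2 M ⊔ L ⊓ 𝐂(E)).relIndex M = p := by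
    have e : Op' 2 M ⊔ L ⊓ 𝐂(E) ⊔ L = M := by
      rw [sup_assoc, sup_eq_right.2 (inf_le_left : L ⊓ 𝐂(E) ≤ L), hML]
    nth_rw 2 [← e]
    rw [relIndex_sup_eq' (Or.inr hLN), ← inf_relIndex_right, sup_inf_of_le_right
      (Or.inr (inf_le_left.trans hLO)) inf_le_left, sup_eq_right.2 (le_inf inf_le_right hOL),
      inf_relIndex_left, h3]
  obtain ⟨P, hP⟩ := exists_syl p M
  have hP0 := hP.ne_bot (h4 ▸ relIndex_dvd_card _ _)
  have h5 := factorisation ⟨hs, Or.inl h.five⟩ hP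
  obtain ⟨T, hT⟩ := exists_syl 2 (M ⊓ 𝐍(Zc (puig P)))
  have h6 : ¬ 2 ∣ ♯(Op' p M) := (syl_Op_of_nil 2 (h.nil _ (not_dvd_Op' M))).eq_bot_iff.1
    (eq_bot_iff.2 ((Op_le_of_normal 2 (Opi_normal _ M)).trans h0.le))
  obtain ⟨g, hg, h7⟩ := (hT.hall.trans_of_relIndex inf_le_left
    ((isPiNum_compl_singleton Nat.prime_two).2 fun e => h6 (by
      nth_rw 2 [← h5] at e
      rw [relIndex_sup_eq (Or.inr (inf_le_left.trans (Opi_normal _ M).norm))] at e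
      exact e.trans (relIndex_dvd_card _ _)))).syl.exists_conj_le
    (hEQ.trans (hQS'.trans hS.le)) (abelem_isPGroup hE)
  have h8 := hM.le_of_four (h.sol_norm (sol_of_ab (Zc_ab _)) fun e =>
    hP0 (trivg_center_Puig_pgroup hP.isPGroup e)) (abelem_conj.2 hE) (by rwa [card_conj])
    (h7.trans (hT.le.trans inf_le_right)) (h7.trans (hT.le.trans inf_le_left))
  have h9 := inf_der_le (fun Y hY h1 => ⟨h.sol_norm (sol_of_isPGroup hY) h1, Or.inl h.five⟩)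
    (.of_syl_norm le_top (hP.mono (le_inf le_top (le_norm_self P))
      (inf_le_right.trans ((norm_le_norm_center_puig P).trans h8))))
  rw [h.eq_top (der_normal ⊤).norm fun e => h.nsol (sol_of_ab (ab_iff_der.2 e)), inf_top_eq] at h9
  exact hP.not_dvd (h4 ▸ relIndex_dvd_of_le_left M (h9.trans ((der_mono h8).trans
    (der_le_of_relIndex_prime hN (h4 ▸ h.prime)))))

theorem eq_one_of_sq (hD : ¬ 2 ∣ ♯D) (hx : x ∈ D) (h : x ^ 2 = 1) : x = 1 := by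
  by_contra e
  exact hD (inv_of_sq h e ▸ orderOf_dvd_card hx)

theorem MC.case_two (h : MC G p) (hM : SE M) (h0 : Op 2 M ≠ ⊥) : False := by
  haveI := Fact.mk h.prime
  obtain ⟨S, hS⟩ := exists_syl 2 M
  have hE := Ohm_abelem 2 (Zc_ab (Op 2 M))
  have hEM := (Op_normal 2 M).Zc.Ohm 2
  obtain ⟨t, ht, ht1⟩ := exists_mem_ne_one (Ohm_ne_bot ((Op_isPGroup 2 M).to_le (Zc_le _))
    (Zc_ne_bot (Op_nil 2 M) h0))
  generalize Ohm 2 (Zc (Op 2 M)) = E at hE hEM ht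
  obtain ⟨w, hw, hw2⟩ := hM.exists_out
  obtain ⟨z, hz, hz2⟩ := cauchy Nat.prime_two (dvd_card_of_isPGroup
    (hS.isPGroup.to_le (Zc_le S)) (Zc_ne_bot hS.nil (hS.ne_bot hM.even)))
  have hI : ∀ s ∈ M, orderOf s = 2 → s ∈ E := fun s hs hs2 => by
    obtain ⟨k, hk, -, rfl⟩ := hM.exists_conj hw hw2 (hEM.le ht) (inv_of_abelem hE ht ht1) hs hs2
    exact hEM.conj_mem hk.1 ht
  have hzM := hS.le hz.1
  have hzE := hI z hzM hz2
  have tr : ∀ v ∈ M, orderOf v = 2 → ∃ l ∈ M, v = l * z * l⁻¹ := fun v hv h1 => by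
    obtain ⟨k, hk, -, e⟩ := hM.exists_conj hw hw2 hzM hz2 hv h1
    exact ⟨k, hk.1, e.symm⟩
  have h2 := h.two_lt (hM.syl hS) hz.2 hz2 hzE fun s hs => hI s (hS.le hs)
  obtain ⟨h3, h4⟩ := h.toNH.trans hE h2 hEM.norm hS hzE (ne_one_of_inv hz2) hz.2 fun v hv h1 =>
    tr v (hEM.le hv) (inv_of_abelem hE hv h1)
  rw [inf_eq_right.2 (hM.cent_le hzM hz2)] at h4
  have hCM := (cent_le_cent1 hzE).trans (hM.cent_le hzM hz2)
  have hMC := le_norm_cent hEM.norm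
  have A1 : ∀ x ∈ 𝐂(E), x ≠ 1 → 𝐂[x] ≤ M := fun x hx h1 =>
    hM.le_of_four (h.sol_cent1 h1) hE h2 (le_cent1_iff.2 hx) hEM.le
  have K1 : ∀ w c y : G, orderOf w = 2 → c ≠ 1 → c ∈ 𝐂[w] → y ∈ 𝐂[c] →
      (w * y * w⁻¹ * y⁻¹) ^ 2 = 1 := fun w c y h1 h5 h6 h7 => by
    obtain ⟨g, rfl⟩ : ∃ g, w = g * z * g⁻¹ := by
      by_cases e : w ∈ M
      · exact (tr w e h1).imp fun _ e => e.2
      · exact (hM.exists_swap hzM hz2 e h1).imp fun _ e => e.2.2.symm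
    rw [cent1_conj, OO.mem_conj] at h6
    have h8 : g⁻¹ * y * g ∈ M := A1 _ (h4 h6) (conj_ne_one'.2 h5) (by
      rw [← OO.mem_conj, ← cent1_conj]; simpa [mul_assoc] using h7)
    have h9 := hE.2 _ (mul_mem hzE (hEM.conj_mem h8 (inv_mem hzE)))
    rw [show g * z * g⁻¹ * y * (g * z * g⁻¹)⁻¹ * y⁻¹ =
      g * (z * (g⁻¹ * y * g * z⁻¹ * (g⁻¹ * y * g)⁻¹)) * g⁻¹ by group, conj_pow, h9]
    simp
  have hD : ∀ w ∉ M, orderOf w = 2 → ♯(M ⊓ w •ᶜ M) = p ∧ (∀ y ∈ M ⊓ w •ᶜ M, y ∈ 𝐂(E) → y = 1) ∧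
      ∀ x ∈ M ⊓ w •ᶜ M, w * x * w⁻¹ = x⁻¹ := fun w hw hw2 => by
    have e1 := inv_eq_of_inv hw2
    have e2 := mul_self_of_inv hw2
    have D0 : ∀ x ∈ 𝐂(E), x ∈ w •ᶜ 𝐂(E) → x = 1 := fun x h5 h6 => by
      by_contra e
      rw [← cent_conj] at h6
      exact hw (hM.mem hzM hz2 (A1 x h5 e (le_cent1_iff.2 h6 (conj_mem_conj hzE))))
    have D1 : ∀ y ∈ M ⊓ w •ᶜ M, y ∈ 𝐂(E) → y = 1 := fun y hy hyC => by
      have h5 : w * y * w⁻¹ ∈ M := by simpa [e1] using OO.mem_conj.1 hy.2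
      have h6 := conj_mem_conj (g := w) hyC
      have h7 : y * (w * y * w⁻¹) * y⁻¹ * (w * y * w⁻¹)⁻¹ = 1 := D0 _ (by
        rw [mul_assoc, mul_assoc, ← mul_assoc _ y⁻¹]
        exact mul_mem hyC (conj_mem_of_norm (hMC h5) (inv_mem hyC)))
        (mul_mem (conj_mem_of_norm (conj_le_norm_conj.2 hMC hy.2) h6) (inv_mem h6))
      rw [mul_inv_eq_one, mul_inv_eq_iff_eq_mul] at h7
      by_cases e : y * (w * y * w⁻¹) = 1
      · exact D0 y hyC (eq_inv_of_mul_eq_one_left e ▸ inv_mem h6)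
      have h8 := K1 w _ y hw2 e (mem_cent1_comm.1 (mem_cent1_iff_conj.2 (by
        calc _ = w * y * w⁻¹ * (w * w * y * (w * w)⁻¹) := by group
          _ = _ := by rw [e2, h7]; group))) (mem_cent1.2 (by rw [mul_assoc y _ y, ← h7]))
      have h9 := eq_one_of_sq (hM.odd w hw) (mul_mem ⟨h5, conj_mem_conj hy.1⟩ (inv_mem hy)) h8
      exact D0 y hyC (mul_inv_eq_one.1 h9 ▸ h6)
    have D2 : ♯(M ⊓ w •ᶜ M) ∣ p := by
      rw [← h3, ← one_mul ♯_, ← relIndex_bot_left, ← (eq_bot_iff_forall _).2 fun y hy =>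
        D1 y (mem_inf.1 hy).1 (mem_inf.1 hy).2, inf_relIndex_left, one_mul]
      exact relIndex_dvd_of_le_norm inf_le_left hMC
    obtain ⟨s, hs, hs'⟩ := SetLike.exists_of_lt (lt_of_le_of_ne (zpowers_le.2 hzE) fun e => by
      rw [← e, Nat.card_zpowers, hz2] at h2; omega)
    rw [mem_zpowers_inv hz2, not_or] at hs'
    obtain ⟨k, hk, h5, h6⟩ := hM.exists_conj hw hw2 hzM hz2 (hEM.le hs) (inv_of_abelem hE hs hs'.1)
    have hk1 : k ≠ 1 := fun e => hs'.2 (by simpa [e] using h6.symm)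
    have D3 := ((Nat.dvd_prime h.prime).1 D2).resolve_left fun e =>
      hk1 (mem_bot.1 (card_eq_one_iff.1 e ▸ hk))
    refine ⟨D3, D1, fun x hx => ?_⟩
    obtain ⟨i, rfl⟩ := (eq_zpowers_of_prime (D3 ▸ h.prime) hk hk1).ge hx
    simp only [← conj_zpow, h5, inv_zpow]
  obtain ⟨D1, D2, D3⟩ := hD w hw hw2
  have hO := hM.odd w hw
  have hK : ∀ k ∈ M ⊓ w •ᶜ M, k ≠ 1 → 𝐂[k] ≤ M ⊓ w •ᶜ M := fun k hk hk1 => by
    have h5 : 𝐂[k] ≤ M := fun c hc => by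
      by_contra e
      obtain ⟨v, h6, h7, h8⟩ := hM.exists_swap hzM hz2 (fun e' => e (hM.mem hzM hz2 e'))
        ((orderOf_conj c z).trans hz2)
      have h9 : c⁻¹ * v ∈ 𝐂(E) := h4 (mem_cent1_iff_conj.2 (by
        rw [show c⁻¹ * v * z * (c⁻¹ * v)⁻¹ = c⁻¹ * (v * z * v⁻¹) * c by group, h8]; group))
      have hc' := mem_cent1_iff_conj.1 (inv_mem hc)
      have h10 := (hD v h6 h7).2.2 k ⟨hk.1, OO.mem_conj.2 (by
        have := mul_mem (mul_mem (inv_mem (hCM h9)) hk.1) (hCM h9)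
        rw [← mem_cent1_iff_conj.1 hc]
        convert this using 1; group)⟩
      have h11 := mul_mem h9 (conj_mem_of_norm (hMC hk.1) (inv_mem h9))
      rw [show c⁻¹ * v * (k * (c⁻¹ * v)⁻¹ * k⁻¹) = c⁻¹ * (v * k * v⁻¹) * c * k⁻¹ by group, h10,
        show c⁻¹ * k⁻¹ * c * k⁻¹ = (k * (c⁻¹ * k * c⁻¹⁻¹))⁻¹ by group, hc', inv_mem_iff,
        ← pow_two] at h11
      exact hk1 (eq_one_of_sq hO hk (D2 _ (pow_mem hk 2) h11))
    refine le_inf h5 ?_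
    rw [← cent1_inv, ← D3 k hk, cent1_conj]
    exact conj_mono w h5
  have hDp : IsPGroup p ↥(M ⊓ w •ᶜ M) := isPGroup_of_card_prime_pow (D1.trans (pow_one p).symm)
  have hD0 := ne_bot_of_prime_dvd h.prime D1.symm.dvd
  have hP : Syl p (M ⊓ w •ᶜ M) ⊤ := syl_of_max le_top hDp fun U h5 _ h6 => by
    obtain ⟨y, hy, hy1⟩ := exists_mem_ne_one (Zc_ne_bot (nil_of_isPGroup h6) (ne_bot_of_le_ne_bot hD0 h5))
    obtain ⟨k, hk, hk1⟩ := exists_mem_ne_one hD0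
    exact le_antisymm ((le_cent1_iff.2 hy.2).trans
      (hK y (hK k hk hk1 (cent_le_cent1 (h5 hk) hy.2)) hy1)) h5
  have P1 : ∀ x : G, PiElt {p} x → x ≠ 1 → ∃ g, zpowers x = g •ᶜ (M ⊓ w •ᶜ M) ∧ 𝐂[x] ≤ zpowers x :=
    fun x hx h1 => by
      obtain ⟨g, -, hg⟩ := hP.exists_le_conj' le_top (isPGroup_zpowers_iff.2 hx)
      have e := eq_zpowers_of_prime (by rw [card_conj, D1]; exact h.prime) (hg (mem_zpowers x)) h1
      refine ⟨g, e, ?_⟩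
      rw [e, show x = g * (g⁻¹ * x * g) * g⁻¹ by group, cent1_conj]
      exact conj_mono g (hK _ (OO.mem_conj.1 (hg (mem_zpowers x))) (conj_ne_one'.2 h1))
  have P2 : ∀ u ∉ M, orderOf u = 2 → z * (u * z) * z⁻¹ = (u * z)⁻¹ ∧ PiElt {p} (u * z) ∧ u * z ≠ 1 :=
    fun u hu hu2 => by
      have e : z * (u * z) * z⁻¹ = (u * z)⁻¹ := by
        rw [mul_inv_rev, inv_eq_of_inv hu2]; nth_rw 2 [inv_eq_of_inv hz2]; group
      exact ⟨e, h.toNH.piElt_of_inv hz2 (hM.odd_mul hzM hz2 hu hu2) e, fun e =>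
        hu (eq_inv_of_mul_eq_one_left e ▸ inv_mem hzM)⟩
  obtain ⟨a1, a2, a3⟩ := P2 w hw hw2
  obtain ⟨g1, a4, -⟩ := P1 _ a2 a3
  have P3 : ∀ m : M, ∃ q : 𝐂(E) × sharp (zpowers (w * z)),
      m * w * (m : G)⁻¹ * z = q.1 * q.2 * (q.1 : G)⁻¹ := fun m => by
    obtain ⟨b1, b2, b3⟩ := P2 (m * w * (m : G)⁻¹) (fun e => hw (by
      simpa [mul_assoc] using mul_mem (mul_mem (inv_mem m.2) e) m.2)) ((orderOf_conj _ w).trans hw2)
    generalize m * w * (m : G)⁻¹ * z = x at b1 b2 b3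
    obtain ⟨g2, b4, -⟩ := P1 _ b2 b3
    obtain ⟨g, y, hy, rfl⟩ : ∃ g, ∃ y ∈ zpowers (w * z), x = g * y * g⁻¹ :=
      ⟨g2 * g1⁻¹, mem_conj_iff_exists.1 (by
        rw [a4, conj_conj, inv_mul_cancel_right, ← b4]; exact mem_zpowers x)⟩
    have hy1 := conj_ne_one.1 b3
    have hyp := piElt_conj.1 b2
    obtain ⟨-, -, b5⟩ := P1 _ hyp hy1
    have b6 : z * y * z⁻¹ = y⁻¹ := by
      obtain ⟨i, rfl⟩ := hy
      simp only [← conj_zpow, a1, inv_zpow]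
    have b7 : g⁻¹ * z * g * z ∈ 𝐂[y] := mem_cent1_iff_conj.2 (by
      calc _ = g⁻¹ * (z * (g * (z * y * z⁻¹)⁻¹ * g⁻¹) * z⁻¹)⁻¹ * g := by group
        _ = _ := by rw [b6, inv_inv, b1]; group)
    obtain ⟨j, hj⟩ := R1.exists_conj_of_odd (a := g⁻¹ * z * g)
      (mul_self_of_inv ((orderOf_conj' g z).trans hz2)) (mul_self_of_inv hz2) fun e =>
        (hyp.of_mem_zpowers (b5 b7)).not_dvd Nat.prime_two
          (fun e => by have := h.five; rw [Set.mem_singleton_iff] at e; omega) e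
    refine ⟨⟨⟨g * (g⁻¹ * z * g * z) ^ j, h4 (mem_cent1_iff_conj.2 ?_)⟩, ⟨y, hy, hy1⟩⟩, ?_⟩
    · rw [mul_inv_rev, ← mul_assoc, mul_assoc g, mul_assoc g, hj]; group
    · nth_rw 1 [← mem_cent1_iff_conj.1 (pow_mem b7 j)]
      simp only [mul_inv_rev, mul_assoc]
  choose f hf using P3
  have h5 := Nat.card_le_card_of_injective f fun m n e => by
    have e1 := (hf m).trans (e ▸ (hf n).symm)
    have e2 : (n : G)⁻¹ * m ∈ 𝐂[w] := mem_cent1_iff_conj.2 (by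
      rw [show (n : G)⁻¹ * m * w * ((n : G)⁻¹ * m)⁻¹ = (n : G)⁻¹ * (m * w * (m : G)⁻¹) * n by group,
        mul_right_cancel e1]; group)
    have e3 := mem_cent1_iff_conj.1 (mem_cent1_comm.1 e2)
    have e4 : (n : G)⁻¹ * m ∈ M ⊓ w •ᶜ M := mem_inf.2 ⟨mul_mem (inv_mem n.2) m.2,
      e3 ▸ conj_mem_conj (mul_mem (inv_mem n.2) m.2)⟩
    have e5 := eq_one_of_sq hO e4 (by rw [pow_two]; nth_rw 1 [← e3, D3 _ e4, inv_mul_cancel])
    exact Subtype.ext (inv_mul_eq_one.1 e5).symm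
  rw [Nat.card_prod, Nat.card_coe_set_eq, ncard_sharp, a4, card_conj, D1, ← card_mul_relIndex hCM,
    h3] at h5
  have := Nat.le_of_mul_le_mul_left h5 (card_pos' _)
  have := h.five
  omega

theorem MC.false (h : MC G p) : False :=
  let ⟨_, hM⟩ := h.exists_se
  h.case_two hM (h.case_one hM)

theorem NH.solvable (n : ℕ) : ∀ {G : Type u} [Group G] [Finite G], Nat.card G = n → NH G p →
    Group.IsSolvable G := by
  induction n using Nat.strong_induction_on with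
  | _ n ih =>
  intro G _ _ hn h
  by_contra hs
  have h1 : ∀ H : Subgroup G, H ≠ ⊤ → Sol H := fun H hH =>
    ih _ (hn ▸ card_top (G := G) ▸ card_lt (lt_top_iff_ne_top.2 hH)) rfl
      (h.of_hom (K := H) (MonoidHom.id H) Function.surjective_id)
  haveI : Nontrivial G := by
    by_contra e
    rw [not_nontrivial_iff_subsingleton] at e
    exact hs inferInstance
  refine MC.false ⟨h, ⟨fun N hN => ?_⟩, fun e => hs (Group.isSolvable_of_surjective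
    (f := (⊤ : Subgroup G).subtype) fun g => ⟨⟨g, mem_top g⟩, rfl⟩), h1⟩
  by_contra! e
  have h2 := h1 N e.2
  have h3 : Group.IsSolvable (G ⧸ N) := ih _ (by
    rw [← hn, ← index_eq_card, ← N.index_mul_card]
    exact lt_mul_of_one_lt_right (Nat.pos_of_ne_zero index_ne_zero_of_finite) (one_lt_card e.1)) rfl
    (h.of_hom (K := ⊤) ((QuotientGroup.mk' N).comp (Subgroup.subtype _)) fun x => by
      obtain ⟨g, rfl⟩ := QuotientGroup.mk'_surjective N x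
      exact ⟨⟨g, mem_top g⟩, rfl⟩)
  exact hs (Group.isSolvable_of_ker_le_range N.subtype (QuotientGroup.mk' N) (by simp))

end Cfsg.Agent.ZL
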