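import Cfsg.Agent.Lib.ZL.Dih
import Cfsg.Agent.Lib.R1.ZStar
import Cfsg.Agent.Lib.OO.Final
import Cfsg.Agent.S3756

/-!
# Minimal simple groups whose `p'`-subgroups are nilpotent have a strongly embedded subgroup
-/

set_option autoImplicit false
set_option linter.unusedSectionVars false

namespace Cfsg.Agent.ZL

open Subgroup Cfsg.Agent.Coprime Cfsg.Agent.OO Cfsg.Agent.ZN
open scoped Pointwise commutatorElement

universe u v

variable {G : Type u} [Group G] [Finite G] {A B D E H K L M N P Q R S T U V W X Y : Subgroup G}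
  {p : ℕ} {a b g k t x y z : G}

theorem NH.of_hom {G' : Type v} [Group G'] [Finite G'] (h : NH G p) (f : K →* G')
    (hf : Function.Surjective f) : NH G' p := by
  refine ⟨h.prime, h.five, fun H hH => ?_⟩
  obtain ⟨L, h1, h2⟩ := (wellFounded_lt (α := Subgroup K)).has_min {L | L.map f = H}
    ⟨_, map_comap_eq_self_of_surjective hf H⟩
  have h3 : L ⊓ f.ker ≤ Phi L := (le_Phi_iff inf_le_left).2 fun L' h3 h4 =>
    (eq_or_lt_of_le h3).resolve_right (h2 L' (le_antisymm (h1 ▸ map_mono h3) (by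
      rw [← h1]
      refine (map_mono h4).trans ?_
      rw [Subgroup.map_sup, (map_eq_bot_iff (f := f) (L ⊓ f.ker)).2 inf_le_right, sup_bot_eq])))
  have h4 : ¬ p ∣ ♯L := fun e => hH (by
    have := (dvd_relIndex_Phi h.prime e).trans (relIndex_dvd_of_le_left L h3)
    rwa [inf_relIndex_left, relIndex_ker, h1] at this)
  have h5 := h.nil (L.map K.subtype) (by rwa [card_map_of_injective K.subtype_injective])
  have h6 : Nil L := (Group.isNilpotent_congr
    (L.equivMapOfInjective _ K.subtype_injective)).2 h5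
  exact h1 ▸ Group.nilpotent_of_surjective _ (f.subgroupMap_surjective L)

theorem NH.not_involves (h : NH G p) : ¬ Involves (Equiv.Perm (Fin 4)) M := fun e => by
  obtain ⟨K, f, hf⟩ := Core.involves_iff.1 (Core.involves_of_subgroup e)
  have h1 := (h.of_hom f hf).nil ⊤ fun e => by
    rw [card_top, Nat.card_perm, Nat.card_eq_fintype_card, Fintype.card_fin,
      h.prime.dvd_factorial] at e
    have := h.five
    omega
  exact absurd (commute_of_nil_of_coprime h1 (mem_top (Equiv.swap 0 1))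
    (mem_top (Equiv.swap 0 1 * Equiv.swap 1 2)) (by
      rw [orderOf_eq_prime (p := 2) (by decide) (by decide),
        orderOf_eq_prime (p := 3) (by decide) (by decide)]; decide)).eq (by decide)

/-- elements of odd order centralize small 2-groups -/
theorem NH.norm_le_cent (h : NH G p) (hS : Syl 2 S ⊤) (hT : T ≤ Zc S) (hn : 𝐍(S) ≤ 𝐍(T))
    (hc : ♯T ≤ p) : 𝐍(S) ≤ 𝐂(T) := fun x hx => mem_of_forall_constt_mem fun r hr _ => by
  have h1 := constt_mem {r} hx
  have h2 := piElt_constt {r} x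
  have hT2 := hS.isPGroup.to_le (hT.trans (Zc_le S))
  by_cases e : r = 2
  · exact le_cent_symm (hT.trans inf_le_right) (hS.mem_of_mem_norm (mem_top _) h1 (e ▸ h2))
  by_cases e' : r = p
  · subst e'
    haveI := Fact.mk hr
    have h3 := Coprime.card_modEq_card_inf_centralizer (isPGroup_zpowers_iff.2 h2)
      (zpowers_le.2 (hn h1))
    have h4 := card_le (inf_le_left : T ⊓ 𝐂(zpowers (constt {r} x)) ≤ T)
    have h5 := card_pos' (T ⊓ 𝐂(zpowers (constt {r} x)))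
    have h6 := Nat.eq_zero_of_dvd_of_lt ((Nat.modEq_iff_dvd' h4).1 h3.symm) (by omega)
    exact le_cent_symm (inf_eq_left.1 (eq_of_le_of_card_le inf_le_left (by omega)))
      (mem_zpowers _)
  · exact h.mem_cent hT2 (hn h1) hr e e' h2

/-- minimal counterexample -/
structure MC (G : Type u) [Group G] (p : ℕ) : Prop extends NH G p where
  simple : IsSimpleGroup G
  nsol : ¬ Sol (⊤ : Subgroup G)
  sol : ∀ H : Subgroup G, H ≠ ⊤ → Sol H

/-- strongly embedded -/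
structure SE (M : Subgroup G) : Prop where
  ne : M ≠ ⊤
  even : 2 ∣ ♯M
  odd : ∀ g ∉ M, ¬ 2 ∣ ♯(M ⊓ g •ᶜ M)

namespace ZU

theorem le_cent' (h : ZU S z) : S ≤ 𝐂[z] := le_cent1_iff.2 h.mem.2

theorem four_index (h : ZU S z) (hW : IsEp 2 2 W S) (hn : S ≤ 𝐍(W)) :
    (S ⊓ 𝐂(W)).relIndex S = 2 := by
  have h1 := logn_quotient_cent_abelem hn hW.abelem hW.card.le
  obtain ⟨n, hn⟩ := h.syl.isPGroup.exists_card_eq
  have h2 : (S ⊓ 𝐂(W)).relIndex S ∣ 2 ^ n := hn ▸ relIndex_dvd_card _ _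
  obtain ⟨k, -, hk⟩ := (Nat.dvd_prime_pow Nat.prime_two).1 h2
  obtain _ | _ | k := k
  · have := card_le (show W ≤ zpowers z from fun w hw => h.uniq w ⟨hW.le hw,
      le_cent_symm ((relIndex_eq_one.1 hk).trans inf_le_right) hw⟩ (hW.abelem.2 w hw))
    rw [Nat.card_zpowers, h.inv, hW.card] at this
    omega
  · exact hk
  · exact absurd (hk ▸ pow_dvd_pow 2 (by omega)) h1

theorem KK_eq (h : ZU S z) (hC : HC G) (hW : IsEp 2 2 W S) (hn : S ≤ 𝐍(W)) (g : G)
    (hA : IsEp 2 3 A (g •ᶜ S)) : KK A = g •ᶜ KK W := by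
  wlog e : g = 1 generalizing A g
  · have := this 1 (A := g⁻¹ •ᶜ A) (by simpa [conj_conj] using hA.conj g⁻¹) rfl
    rwa [KK_conj, conj_eq_iff_eq_inv_conj, inv_inv, conj_conj, mul_one] at this
  rw [e, conj_eq_of_mem (one_mem _)] at hA ⊢
  have h0 : 2 < ♯(A ⊓ 𝐂(W)) := by
    have h1 := card_inf_mul_relIndex (𝐂(W)) A
    have h2 := Nat.le_of_dvd (relIndex_pos _ _) (relIndex_dvd_of_le_norm hA.le (le_norm_cent hn))
    have h3 := h.four_index hW hn
    rw [inf_comm, inf_relIndex_right] at h3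
    rw [hA.card, inf_comm] at h1
    rw [h3] at h2
    nlinarith
  have h1 := abelem_of_le hA.abelem (inf_le_left : A ⊓ 𝐂(W) ≤ A)
  have h2 := not_isCyclic_of_card h1 h0
  rw [KK_eq_KK hC hA.abelem h1 (hA.not_isCyclic (by norm_num)) h2
    (hA.le_cent.trans (cent_anti inf_le_left)),
    KK_eq_KK hC h1 hW.abelem h2 (hW.not_isCyclic le_rfl) inf_le_right]

theorem cent_le (h : ZU S z) (hC : HC G) (hW : IsEp 2 2 W S) (hn : S ≤ 𝐍(W))
    (hA : IsEp 2 4 A S) : 𝐂[z] ≤ 𝐍(KK W) := by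
  refine le_of_hyperplanes _ rfl (hC z h.inv) (h.syl.mono h.le_cent' le_top) hA.le hA.abelem
    fun R hR hc g hg => ?_
  obtain ⟨B, hB⟩ := exists_isEp (p := 2) (n := 3) (r3_of_card (abelem_of_le hA.abelem inf_le_left)
    (inf_le_right : A ⊓ R ≤ R) (by rw [hA.card] at hc; omega))
  have e := conj_eq_of_mem (one_mem S)
  rw [← conj_eq_self_iff, ← h.KK_eq hC hW hn g ((hB.mono hR).conj g),
    h.KK_eq hC hW hn 1 (e.symm ▸ (hB.conj_of_norm hg.2).mono hR), conj_eq_of_mem_norm (one_mem _)]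

theorem good (h : ZU S z) (hp : NH G p) (hC : HC G) (hW : IsEp 2 2 W S) (hn : S ≤ 𝐍(W))
    (hA : IsEp 2 4 A S) : Good S (pResidual 2 G) (KK W) z := by
  have hz := h.cent_le hC hW hn hA
  have fus : ∀ g, g * z * g⁻¹ ∈ S → g ∈ 𝐍(KK W) := fun g hg => by
    have := hp.fusion_ind h (R := fun g k => g •ᶜ KK W = k •ᶜ KK W) (fun _ _ _ e e' => e.trans e'.symm)
      (fun g k e => by
        rw [conj_eq_iff_eq_inv_conj, conj_conj, conj_eq_of_mem_norm (hz (mem_cent1_iff_conj.2 ?_))]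
        rw [show g⁻¹ * k * z * (g⁻¹ * k)⁻¹ = g⁻¹ * (k * z * k⁻¹) * g by group, ← e]; group)
      (fun g k V hV h1 h2 => by
        obtain ⟨B, hB⟩ := exists_isEp (p := 2) (n := 3) (r3_of_card hV le_rfl (by omega))
        have key : ∀ g : G, B ≤ 𝐂[g * z * g⁻¹] → KK B = g •ᶜ KK W := fun g e => by
          obtain ⟨c, hc, h3⟩ := (h.syl_cent g).exists_le_conj' e hB.isPGroup
          rw [cent1_conj, OO.mem_conj] at hc
          rw [conj_conj] at h3
          rw [h.KK_eq hC hW hn _ (hB.of_le h3), show c * g = g * (g⁻¹ * c * g) by group,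
            ← conj_conj, conj_eq_of_mem_norm (hz hc)]
        rw [← key g (hB.le.trans (h2.trans inf_le_left)), key k (hB.le.trans (h2.trans inf_le_right))])
      g 1 (by simpa using h.le_cent' hg)
    rwa [conj_eq_of_mem_norm (one_mem _), conj_eq_self_iff] at this
  refine ⟨?_, hn.trans (norm_le_norm_KK W), fus, fun t ht ht2 => ?_⟩
  · obtain ⟨B, hB⟩ := hA.exists_le (k := 3) (by norm_num)
    have := KK_odd hC hB.abelem hB.card.ge
    rwa [h.KK_eq hC hW hn 1 ((conj_eq_of_mem (one_mem S)).symm ▸ hB.mono hA.le), card_conj] at this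
  obtain ⟨g, hg⟩ := exists_conj_mem h.syl inf_le_left (h.four_index hW hn) ht (sq_of_inv ht2)
  have h1 : orderOf (g * t * g⁻¹) = 2 := by rwa [orderOf_conj]
  suffices 𝐂[g * t * g⁻¹] ≤ 𝐍(KK W) ∧ th (g * t * g⁻¹) ≤ KK W by
    rw [cent1_conj, th_conj, conj_le_iff_le_inv_conj, conj_le_iff_le_inv_conj] at this
    exact ⟨g⁻¹, this⟩
  generalize g * t * g⁻¹ = u at hg h1
  have h2 : W ≤ 𝐂[u] := le_cent1_iff.2 hg.2
  refine ⟨?_, th_le_KK hC h1 hW.abelem (hW.not_isCyclic le_rfl) h2⟩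
  obtain ⟨T, hT, h3⟩ := exists_syl_ge (inf_le_right : S ⊓ 𝐂[u] ≤ _)
    (h.syl.isPGroup.to_le inf_le_left)
  obtain ⟨k, -, hk⟩ := h.syl.exists_le_conj' le_top hT.isPGroup
  have hu : u ∈ T := h3 ⟨hg.1, mem_cent1_self u⟩
  have h4 := conj_le_Zc hT hu hk (zpowers_le.2 h.mem) (isPGroup_zpowers_inv h.inv)
  rw [conj_zpowers] at h4
  by_cases e : zpowers u = zpowers (k * z * k⁻¹)
  · have h5 : k⁻¹ ∈ 𝐍(KK W) := fus _ (by
      simpa using OO.mem_conj.1 (hk (h3 ⟨h.mem.1, mem_cent1_comm.1 (h.le_cent' hg.1)⟩)))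
    rw [← cent_zpowers, e, cent_zpowers, cent1_conj]
    exact conj_le_of_mem (inv_mem_iff.1 h5) hz
  · have hu' : u ∈ Zc T := ⟨hu, le_cent1_iff.1 hT.le⟩
    have h5 := (isEp_zpowers hu' h1).sup_two (isEp_zpowers (h4 (mem_zpowers _))
      ((orderOf_conj k z).trans h.inv)) (h4.trans (inf_le_right.trans (cent_anti (zpowers_le.2 hu)))) e
    rw [← KK_eq_KK hC h5.abelem hW.abelem (h5.not_isCyclic le_rfl) (hW.not_isCyclic le_rfl)
      (h5.le.trans (inf_le_right.trans (cent_anti ((le_inf hW.le h2).trans h3))))]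
    exact cent_le_norm_KK hC h1 hT h5.abelem (h5.not_isCyclic le_rfl) h5.le

end ZU

namespace MC

theorem eq_top (h : MC G p) (hN : ⊤ ≤ 𝐍(N)) (h0 : N ≠ ⊥) : N = ⊤ :=
  (h.simple.eq_bot_or_eq_top_of_normal N (normalIn_top.1 ⟨le_top, hN⟩)).resolve_left h0

theorem norm_ne (h : MC G p) (hN : N ≠ ⊤) (h0 : N ≠ ⊥) : 𝐍(N) ≠ ⊤ := fun e =>
  hN (h.eq_top e.ge h0)

theorem sol_norm (h : MC G p) (hN : Sol N) (h0 : N ≠ ⊥) : Sol 𝐍(N) :=
  h.sol _ (h.norm_ne (fun e => h.nsol (e ▸ hN)) h0)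

theorem sol_cent1 (h : MC G p) (hx : x ≠ 1) : Sol 𝐂[x] :=
  sol_of_le (h.sol_norm (sol_of_ab (ab_of_isCyclic inferInstance)) (zpowers_ne_bot.2 hx))
    (cent_zpowers x ▸ cent_le_norm _)

theorem hc (h : MC G p) : HC G := fun _ ht => h.sol_cent1 (ne_one_of_inv ht)

theorem even (h : MC G p) : 2 ∣ ♯(⊤ : Subgroup G) := by
  by_contra e
  exact h.nsol (Feit_Thompson (Nat.odd_iff.2 (by omega)))

theorem eq_bot (h : MC G p) [N.Normal] (hs : N = ⊤ → Sol (⊤ : Subgroup G) ∨ ¬ 2 ∣ ♯N) : N = ⊥ :=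
  (h.simple.eq_bot_or_eq_top_of_normal N ‹_›).resolve_right fun e =>
    (hs e).elim h.nsol fun h1 => h1 (e ▸ h.even)

theorem o2' (h : MC G p) : pPrimeCore 2 G = ⊥ :=
  h.eq_bot fun _ => Or.inr (Op'_top (G := G) (p := 2) ▸ not_dvd_Op' _)

theorem o2 (h : MC G p) : pCore 2 G = ⊥ :=
  h.eq_bot fun e => Or.inl (e ▸ Op_top (G := G) 2 ▸ sol_of_isPGroup (Op_isPGroup 2 _))

theorem res (h : MC G p) : pResidual 2 G = ⊤ :=
  (h.simple.eq_bot_or_eq_top_of_normal _ inferInstance).resolve_left fun e => h.nsol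
    (sol_of_isPGroup ((Transfer.isPGroup_iff_pResidual_eq_bot.2 e).to_subgroup ⊤))

theorem zst (h : MC G p) (hS : Syl 2 S ⊤) (hz : z ∈ 𝐂(S)) (h2 : orderOf z = 2) :
    ∃ g, g * z * g⁻¹ ∈ S ∧ g * z * g⁻¹ ≠ z := by
  by_contra! e
  have h1 := R1.zstar G z (mul_self_of_inv h2) fun g hg => by
    obtain ⟨c, hc, h3⟩ := (hS.mono (le_cent1_iff.2 hz) le_top).exists_conj_le
      (zpowers_le.2 (mem_cent1.2 hg.symm)) (isPGroup_zpowers_inv ((orderOf_conj g z).trans h2))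
    have h4 := e (c * g) (by convert h3 (conj_mem_conj (mem_zpowers _)) using 1; group)
    rw [show g * z * g⁻¹ = c⁻¹ * (c * g * z * (c * g)⁻¹) * c⁻¹⁻¹ by group, h4,
      mem_cent1_iff_conj.1 (inv_mem hc)]
  refine h.nsol (sol_of_le (h.hc z h2) fun g _ => mem_cent1_iff_conj.2 ?_)
  simpa [h.o2', mul_inv_eq_one] using h1 g

theorem exists_good (h : MC G p) (hS : Syl 2 S ⊤) :
    ∃ K z, z ∈ 𝐂(S) ∧ orderOf z = 2 ∧ Good S ⊤ K z := by
  obtain ⟨z, hz, hz2⟩ := cauchy Nat.prime_two (dvd_card_of_isPGroup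
    (hS.isPGroup.to_le (Zc_le S)) (Zc_ne_bot hS.nil (hS.ne_bot h.even)))
  have hZa := Ohm_abelem 2 (Zc_ab S)
  have hZS := Ohm_le 2 (Zc S)
  have hzZ := mem_Ohm hz (sq_of_inv hz2)
  obtain ⟨g, hg, hg'⟩ := h.zst hS hz.2 hz2
  by_cases hc : IsCyclic (Ohm 2 (Zc S))
  · have e := eq_of_le_of_card_le (zpowers_le.2 hzZ) (by
      rw [Nat.card_zpowers, hz2]; exact not_lt.1 fun h => not_isCyclic_of_card hZa h hc)
    have hu : ZU S z := ⟨hS, hz2, hz, fun x hx h2 => e ▸ mem_Ohm hx h2⟩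
    obtain ⟨A, hA⟩ := exists_isEp ((h.toNH.fusion_ind hu
      (R := fun g k => g * z * g⁻¹ = k * z * k⁻¹ ∨ 4 ≤ rp 2 S)
      (fun _ _ _ e e' => e.elim (fun e => e'.imp_left fun e' => e.trans e'.symm) Or.inr)
      (fun _ _ => Or.inl) (fun _ _ V hV h1 _ => by
        obtain ⟨l, -, hl⟩ := hS.exists_conj_le le_top (abelem_isPGroup hV)
        exact Or.inr ((Nat.pow_le_pow_iff_right one_lt_two).1
          (h1.trans (card_conj l V ▸ card_le_pow_rp hl (abelem_conj.2 hV))))) g 1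
      (by simpa using hu.le_cent' hg)).resolve_left (by simpa using hg'))
    obtain ⟨C, h1, h2, h3⟩ | ⟨W, hW, hn⟩ := exists_cyclic_or_four hS.isPGroup (hS.ne_bot h.even)
    · have h4 := card_inf_mul_relIndex C A
      have h5 := Nat.le_of_dvd (relIndex_pos _ _) (relIndex_dvd_of_le_norm hA.le
        (normal_of_relIndex_prime hS.isPGroup h1 h3).norm)
      rw [hA.card] at h4
      exact absurd (isCyclic_of_le' h2 inf_le_left) (not_isCyclic_of_card
        (abelem_of_le hA.abelem (inf_le_right : C ⊓ A ≤ A)) (by nlinarith))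
    · exact ⟨_, z, hz.2, hz2, h.res ▸ hu.good h.toNH h.hc hW hn hA⟩
  by_cases hr : 2 < rp 2 S
  · exact ⟨_, z, hz.2, hz2, good_of_not_isCyclic h.hc hS hc hr hz.2 hz2 _⟩
  obtain ⟨n, hn⟩ := exists_isEp_of_abelem hZa (hZS.trans (Zc_le S))
  obtain rfl : n = 2 := le_antisymm (hn.le_rp.trans (by omega)) (by
    by_contra! h1
    exact hc ((isCyclic_iff_rp_of_ab hn.isPGroup hn.ab).2 (by rw [hn.rp_eq]; omega)))
  have h1 := hZS ((hn.isMaxEp (by omega)).mem_of_cent hg (le_cent_symm (hZS.trans inf_le_right) hg)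
    (sq_of_inv ((orderOf_conj g z).trans hz2)))
  have h2 : S ≤ 𝐂[g * z * g⁻¹] := le_cent1_iff.2 h1.2
  obtain ⟨c, hc, h3⟩ := ((hS.conj_of_mem (mem_top g)).mono (by
    rw [cent1_conj]; exact conj_mono g (le_cent1_iff.2 hz.2)) le_top).exists_conj'
      (hS.mono h2 le_top)
  have h4 := h.toNH.norm_le_cent hS hZS ((norm_le_norm_Zc S).trans (norm_le_norm_Ohm 2 _))
    (hn.card.trans_le (le_trans (by norm_num) h.five))
    (conj_eq_self_iff.1 ((conj_conj c g S).symm.trans h3.symm))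
  refine absurd ?_ hg'
  rw [← mem_cent1_iff_conj.1 hc]
  convert mem_cent_iff_conj.1 h4 z hzZ using 1
  group

theorem exists_se (h : MC G p) : ∃ M : Subgroup G, SE M := by
  obtain ⟨S, hS⟩ := exists_syl 2 (⊤ : Subgroup G)
  obtain ⟨K, z, hz, hz2, hK⟩ := h.exists_good hS
  by_cases h0 : K = ⊥
  · have hL := locChar_of_th h.hc le_top fun t ht ht2 => by
      obtain ⟨k, -, hk⟩ := hK.cent t ht ht2
      simpa [h0] using hk
    obtain ⟨M, hM, -⟩ := Core.exists_isMaximalPLocal_ge hS.isPGroup (hS.ne_bot h.even)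
    obtain ⟨h1, h2, h3⟩ := S3756.result (even_iff_two_dvd.2 (card_top (G := G) ▸ h.even)) h.o2
      (by
        rintro _ ⟨T, hT, h1, rfl⟩
        exact ⟨h.sol_norm (sol_of_isPGroup hT) h1, Core.isCharIn_iff.1
          (by simpa using hL T le_top hT h1), h.toNH.not_involves⟩) M hM
    exact ⟨M, h1, even_iff_two_dvd.1 h2, fun g hg e =>
      Nat.not_even_iff_odd.2 (h3 g hg) (even_iff_two_dvd.2 e)⟩
  refine ⟨𝐍(K), h.norm_ne (fun e => hK.odd (e ▸ h.even)) h0,
    (hS.dvd_card_iff.2 h.even).trans (card_dvd hK.le), fun g hg => ?_⟩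
  simpa using odd_inf_conj (H := ⊤) hS hz hz2 hK.le hK.fus
    (fun t ht ht2 => (hK.cent t ht ht2).imp fun _ e => e.1) hg

end MC

end Cfsg.Agent.ZL
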