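import Cfsg.Agent.Lib.ZN.ZC
import Cfsg.Agent.Lib.Core.Stable2
import Cfsg.Agent.Lib.Transfer.HallWielandt

/-!
# Groups whose `p'`-subgroups are nilpotent: action on elementary abelian 2-subgroups
-/

set_option autoImplicit false
set_option linter.unusedSectionVars false

namespace Cfsg.Agent.ZL

open Subgroup Cfsg.Agent.Coprime Cfsg.Agent.OO Cfsg.Agent.ZN
open scoped Pointwise commutatorElement

universe u

variable {G : Type u} [Group G] [Finite G] {A B D E H K L M P Q S T V W X Y : Subgroup G} {p : ℕ}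
  {a b g t x y z : G}

theorem card_le_sq (hW : IsElementaryAbelian 2 W) (hy : y ∈ 𝐍(W)) (h2 : y ^ 2 ∈ 𝐂(W)) :
    ♯W ≤ ♯(W ⊓ 𝐂[y]) ^ 2 := by
  have hc := ab_iff.1 (abelem_ab hW)
  let f : W →* G := MonoidHom.mk' (fun w => w * (y * w * y⁻¹)) fun v w => by
    have := hc _ w.2 _ (conj_mem_of_norm hy v.2)
    calc _ = v * ((w : G) * (y * v * y⁻¹)) * (y * w * y⁻¹) := by simp [mul_assoc]
      _ = _ := by rw [this]; group
  have h1 : f.range ≤ W ⊓ 𝐂[y] := by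
    rintro _ ⟨w, rfl⟩
    refine ⟨mul_mem w.2 (conj_mem_of_norm hy w.2), mem_cent1_comm.1 (mem_cent1_iff_conj.2 ?_)⟩
    calc _ = (y * w * y⁻¹) * (y ^ 2 * w * (y ^ 2)⁻¹) := by simp [f, pow_two, mul_assoc]
      _ = _ := by rw [mem_cent_iff_conj.1 h2 _ w.2, hc _ (conj_mem_of_norm hy w.2) _ w.2]; rfl
  have h3 : f.ker.map W.subtype ≤ W ⊓ 𝐂[y] := by
    rintro _ ⟨w, hw, rfl⟩
    refine ⟨w.2, mem_cent1_comm.1 (mem_cent1_iff_conj.2 ?_)⟩
    have h4 : (w : G) * (y * w * y⁻¹) = 1 := hw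
    have h5 : (w : G) * w = 1 := by rw [← pow_two]; exact hW.2 _ w.2
    exact mul_left_cancel (h4.trans h5.symm)
  have h4 := card_le h3
  rw [card_map_of_injective W.subtype_injective] at h4
  rw [← card_mul_index f.ker, index_ker, pow_two]
  exact Nat.mul_le_mul h4 (card_le h1)

theorem isPGroup_dihedral {G : Type u} [Group G] [Finite G] {a b : G} (ha : a ^ 2 = 1)
    (hb : b ^ 2 = 1) (h : PiElt {2} (a * b)) : IsPGroup 2 (closure ({a, b} : Set G)) := by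
  have h1 : zpowers a ≤ 𝐍(zpowers (a * b)) := zpowers_le.2 (mem_norm_of_conj_le (by
    rw [conj_zpowers, zpowers_le, show a * (a * b) * a⁻¹ = a ^ 2 * b ^ 2 * (a * b)⁻¹ by
      simp [pow_two, mul_assoc], ha, hb, one_mul, one_mul]
    exact inv_mem (mem_zpowers _)))
  refine (isPGroup_sup (abelem_isPGroup (abelem_zpowers ha)) (isPGroup_zpowers_iff.2 h)
    (Or.inl h1)).to_le ((closure_le _).2 ?_)
  rintro _ (rfl | rfl)
  · exact mem_sup_left (mem_zpowers _)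
  · simpa using mul_mem_sup (inv_mem (mem_zpowers a)) (mem_zpowers (a * _))

/-- all `p'`-subgroups are nilpotent -/
structure NH (G : Type u) [Group G] (p : ℕ) : Prop where
  prime : p.Prime
  five : 5 ≤ p
  nil : ∀ H : Subgroup G, ¬ p ∣ ♯H → Nil H

namespace NH

theorem le_cent (h : NH G p) (hA : ¬ p ∣ ♯A) (hB : ¬ p ∣ ♯B) (hn : A ≤ 𝐍(B))
    (hc : (♯A).Coprime ♯B) : A ≤ 𝐂(B) :=
  le_cent_of_nil_of_coprime (h.nil _ fun e => ((Nat.Prime.dvd_mul h.prime).1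
    (e.trans (card_sup_dvd (Or.inl hn)))).elim hA hB) le_sup_left le_sup_right hc

theorem not_dvd_two (h : NH G p) (hT : IsPGroup 2 T) : ¬ p ∣ ♯T := fun e => by
  obtain ⟨n, hn⟩ := hT.exists_card_eq
  have := (Nat.prime_dvd_prime_iff_eq h.prime Nat.prime_two).1 (h.prime.dvd_of_dvd_pow (hn ▸ e))
  have := h.five
  omega

theorem mem_cent (h : NH G p) (hT : IsPGroup 2 T) (hx : x ∈ 𝐍(T)) {r : ℕ} (hr : r.Prime)
    (h2 : r ≠ 2) (hp : r ≠ p) (hx' : PiElt {r} x) : x ∈ 𝐂(T) := by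
  haveI := Fact.mk hr
  refine h.le_cent ?_ (h.not_dvd_two hT) (zpowers_le.2 hx)
    (coprime_of_isPGroup_ne (isPGroup_zpowers_iff.2 hx') hT h2) (mem_zpowers x)
  exact (piGrp_zpowers.2 hx').not_dvd h.prime fun e => hp e.symm

/-- two involutions modulo `C(V)` generate a 2-group, or `V` is large -/
theorem dih (h : NH G p) (hV : IsElementaryAbelian 2 V) (ha : a ∈ 𝐍(V)) (hb : b ∈ 𝐍(V))
    (ha2 : a ^ 2 ∈ 𝐂(V)) (hb2 : b ^ 2 ∈ 𝐂(V)) :
    pResidualOf 2 (closure {a, b}) ≤ 𝐂(V) ∨ ∃ m, 4 ≤ m ∧ m ^ 2 ≤ ♯V ∧ p ≤ m + 1 := by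
  have hN := norm_le_norm_cent V
  have a2 : coset 𝐂(V) a ^ 2 = 1 := by rw [← coset_pow (hN ha), coset_eq_one ha2]
  have b2 : coset 𝐂(V) b ^ 2 = 1 := by rw [← coset_pow (hN hb), coset_eq_one hb2]
  have hab := mul_mem ha hb
  by_cases h1 : constt {2}ᶜ (a * b) ∈ 𝐂(V)
  · refine Or.inl (Core.pResidualOf_le_of_forall fun g hg ho => ?_)
    have h2 : closure {a, b} ≤ 𝐍(𝐂(V)) := (closure_le _).2 (by
      rintro _ (rfl | rfl); exacts [hN ha, hN hb])
    have h3 := isPGroup_dihedral a2 b2 (by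
      rw [← coset_mul (hN ha) (hN hb), ← compl_compl ({2} : Set ℕ), ← constt_eq_one_iff,
        constt_coset _ (hN hab), coset_eq_one h1])
    have h4 := coset_mem_quo 𝐂(V) hg
    rw [quo_closure (fun x hx => h2 (subset_closure hx)), Set.image_pair] at h4
    exact (coset_eq_one_iff (h2 hg)).1 (Transfer.eq_one_of_coprime_of_mem_isPGroup h3
      (ho.coprime_dvd_left (orderOf_coset_dvd _ _)) h4)
  right
  obtain ⟨r, hr, hr', h2⟩ : ∃ r, r.Prime ∧ r ∣ orderOf (constt {2}ᶜ (a * b)) ∧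
      constt {r} (constt {2}ᶜ (a * b)) ∉ 𝐂(V) := by
    by_contra! h2; exact h1 (mem_of_forall_constt_mem h2)
  have hx : constt {r} (constt {2}ᶜ (a * b)) ∈ zpowers (a * b) :=
    constt_mem _ (constt_mem_zpowers _ _)
  have hxr := piElt_constt {r} (constt {2}ᶜ (a * b))
  have hr2 : r ≠ 2 := (piElt_constt {2}ᶜ (a * b)).mem ⟨hr, hr'⟩
  generalize constt {r} (constt {2}ᶜ (a * b)) = x at hx hxr h2
  have hxN : zpowers (a * b) ≤ 𝐍(V) := zpowers_le.2 hab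
  obtain rfl : r = p := by
    by_contra e; exact h2 (h.mem_cent (abelem_isPGroup hV) (hxN hx) hr hr2 e hxr)
  haveI := Fact.mk hr
  have inv : ∀ g ∈ zpowers (a * b), a * g * a⁻¹ * g ∈ 𝐂(V) := by
    rintro _ ⟨k, rfl⟩
    have e := hN (zpow_mem hab k)
    have e' := mul_mem (mul_mem (hN ha) e) (inv_mem (hN ha))
    rw [← coset_eq_one_iff (mul_mem e' e), coset_mul e' e, coset_conj (hN ha) e,
      coset_zpow (hN hab), coset_mul (hN ha) (hN hb), ← conj_zpow,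
      show ∀ u v : Coset 𝐂(V), u * (u * v) * u⁻¹ = u ^ 2 * v ^ 2 * (u * v)⁻¹ from fun u v => by
        simp [pow_two, mul_assoc], a2, b2, one_mul, one_mul, inv_zpow, inv_mul_cancel]
  have hX : zpowers x ≤ zpowers (a * b) := zpowers_le.2 hx
  have hc : (♯V).Coprime ♯(zpowers x) :=
    coprime_of_isPGroup_ne (abelem_isPGroup hV) (isPGroup_zpowers_iff.2 hxr) hr2.symm
  have hWV : ⁅V, zpowers x⁆ ≤ V := commutator_le_left' (hX.trans hxN)
  have hW0 := coprime_abel_cent_TI (hX.trans hxN) hc (abelem_ab hV)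
  have hxW := le_norm_commutator_right V (zpowers x)
  have haW : a ∈ 𝐍(⁅V, zpowers x⁆) := mem_norm_of_conj_le (by
    rw [conj_commutator, conj_eq_of_mem_norm ha, commutator_le]
    intro v hv g hg
    obtain ⟨k, hk, rfl⟩ := mem_conj_iff_exists.1 hg
    have e := mem_cent_iff_conj.1 (inv k (hX hk)) _ (conj_mem_of_norm' (hxN (hX hk)) (inv_mem hv))
    have := commutator_mem_commutator hv (inv_mem hk)
    rw [commutatorElement_def, mul_assoc, mul_assoc, ← mul_assoc k⁻¹, inv_inv, ← e] at this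
    simpa [commutatorElement_def, mul_assoc] using this)
  have hW1 : ⁅V, zpowers x⁆ ≠ ⊥ := fun e =>
    h2 (commutator_eq_bot_iff'.1 e (mem_zpowers x))
  have hWa := abelem_of_le hV hWV
  generalize ⁅V, zpowers x⁆ = W at hWV hW0 hxW haW hW1 hWa
  have h3 := card_le_sq hWa haW (cent_anti hWV ha2)
  have h4 : (W ⊓ 𝐂[a]) ⊓ x •ᶜ (W ⊓ 𝐂[a]) = ⊥ := by
    rw [eq_bot_iff, ← hW0, conj_inf, conj_eq_of_mem_norm (hxW (mem_zpowers x)), ← cent1_conj,
      cent_zpowers]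
    rintro w ⟨⟨w1, w2⟩, -, w3⟩
    refine ⟨w1, mem_cent1_comm.1 ?_⟩
    have e1 : x ^ 2 ∈ 𝐂[w] := by
      have := mul_mem (inv_mem (mul_mem (mem_cent1_comm.1 w2) (inv_mem (mem_cent1_comm.1 w3))))
        (cent_le_cent1 (hWV w1) (inv x hx))
      simpa [pow_two, mul_assoc] using this
    exact zpowers_le.2 e1 (mem_zpowers_pow_iff.2 ((Nat.Prime.coprime_iff_not_dvd Nat.prime_two).2
      (hxr.not_dvd Nat.prime_two hr2.symm)))
  have h5 := card_sup_of_inf_eq_bot (Or.inl (le_norm_of_le_cent (le_cent_mono (abelem_le_cent hWa)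
    inf_le_left (conj_le_of_mem_norm (hxW (mem_zpowers x)) inf_le_left)))) h4
  have h6 := card_le (sup_le (inf_le_left : W ⊓ 𝐂[a] ≤ W) (conj_le_of_mem_norm (hxW (mem_zpowers x))
    (inf_le_left : W ⊓ 𝐂[a] ≤ W)))
  rw [h5, card_conj, ← pow_two] at h6
  have h7 := Coprime.card_modEq_card_inf_centralizer (isPGroup_zpowers_iff.2 hxr) hxW
  rw [hW0, card_bot, le_antisymm h3 h6] at h7
  have h8 := one_lt_card hW1
  have h9 := card_le hWV
  have h10 := h.five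
  generalize ♯(W ⊓ 𝐂[a]) = m at h3 h6 h7
  obtain ⟨m, rfl⟩ : ∃ k, m = k + 2 := ⟨m - 2, by
    rcases m with _ | _ | m <;> simp at h3 ⊢ <;> omega⟩
  have h11 := (Nat.modEq_iff_dvd' (by nlinarith)).1 h7.symm
  rw [show (m + 2) ^ 2 - 1 = (m + 1) * (m + 3) from Nat.sub_eq_of_eq_add (by ring)] at h11
  have h12 : r ≤ m + 3 := ((Nat.Prime.dvd_mul hr).1 h11).elim
    (fun e => (Nat.le_of_dvd (by omega) e).trans (by omega)) (Nat.le_of_dvd (by omega))
  exact ⟨m + 2, by omega, h6.trans h9, h12⟩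

end NH

/-- `z` is the unique involution in the center of the Sylow 2-subgroup `S` -/
structure ZU (S : Subgroup G) (z : G) : Prop where
  syl : Syl 2 S ⊤
  inv : orderOf z = 2
  mem : z ∈ Zc S
  uniq : ∀ x ∈ Zc S, x ^ 2 = 1 → x ∈ zpowers z

theorem ZU.le_cent (h : ZU S z) (g : G) : g •ᶜ S ≤ 𝐂[g * z * g⁻¹] := by
  rw [cent1_conj]; exact conj_mono g (le_cent1_iff.2 h.mem.2)

theorem ZU.syl_cent (h : ZU S z) (g : G) : Syl 2 (g •ᶜ S) 𝐂[g * z * g⁻¹] :=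
  (h.syl.conj_of_mem (mem_top g)).mono (h.le_cent g) le_top

theorem ZU.side (h : ZU S z) (hb : orderOf b = 2) (hc : b ∈ 𝐂[g * z * g⁻¹])
    (hne : g * z * g⁻¹ ≠ b) (hD : Syl 2 D (𝐂[g * z * g⁻¹] ⊓ 𝐂[b])) :
    ∃ y ∈ 𝐂[g * z * g⁻¹], y ∈ 𝐍(D) ∧ y ∉ D ∧ y ^ 2 ∈ D := by
  obtain ⟨c, hc', h1⟩ := (h.syl_cent g).exists_le_conj' (hD.le.trans inf_le_left) hD.isPGroup
  have hb' : b ∈ 𝐂(D) := le_cent1_iff.1 (hD.le.trans inf_le_right)
  have hbD : b ∈ D := hD.le_of_norm (zpowers_le.2 ⟨hc, mem_cent1_self b⟩) (isPGroup_zpowers_inv hb)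
    (Or.inr (le_norm_of_le_cent (zpowers_le.2 hb'))) (mem_zpowers b)
  obtain ⟨y, h2, h3⟩ := Transfer.exists_mem_normalizer_pow_mem
    (isPGroup_conj.2 (h.syl_cent g).isPGroup) le_rfl (le_norm_self _) h1 fun e => by
      have h4 : b ∈ Zc (c •ᶜ g •ᶜ S) := ⟨h1 hbD, cent_anti e hb'⟩
      rw [conj_conj, Zc_conj, OO.mem_conj] at h4
      have h5 := h.uniq _ h4 (by rw [← orderOf_dvd_iff_pow_eq_one, orderOf_conj', hb])
      rcases (mem_zpowers_inv h.inv).1 h5 with e | e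
      · exact ne_one_of_inv hb (not_not.1 fun e' => conj_ne_one'.2 e' e)
      · exact hne (by rw [← mem_cent1_iff_conj.1 hc', ← e]; group)
  exact ⟨y, conj_le_of_mem hc' (h.le_cent g) h2, h3⟩

theorem isPGroup_zpowers_of_sq (hD : IsPGroup 2 D) (hy : y ^ 2 ∈ D) : IsPGroup 2 (zpowers y) := by
  obtain ⟨k, hk⟩ := hD ⟨_, hy⟩
  have h1 : y ^ 2 ^ (k + 1) = 1 := by
    rw [pow_succ', pow_mul]; exact congrArg Subtype.val hk
  exact isPGroup_zpowers_iff.2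
    ((isPiNum_singleton_pow Nat.prime_two _).of_dvd (orderOf_dvd_of_pow_eq_one h1))

theorem NH.fusion_ind (h : NH G p) (hz : ZU S z) {R : G → G → Prop}
    (tr : ∀ g k l, R g l → R k l → R g k) (heq : ∀ g k, g * z * g⁻¹ = k * z * k⁻¹ → R g k)
    (hV : ∀ g k V, IsElementaryAbelian 2 V → 2 ^ 4 ≤ ♯V → V ≤ 𝐂[g * z * g⁻¹] ⊓ 𝐂[k * z * k⁻¹] →
      R g k) (g k : G) (hc : g * z * g⁻¹ ∈ 𝐂[k * z * k⁻¹]) : R g k := by
  obtain ⟨D, hD⟩ := exists_syl 2 (𝐂[g * z * g⁻¹] ⊓ 𝐂[k * z * k⁻¹])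
  induction hn : Nat.card G - ♯D using Nat.strong_induction_on generalizing g k D with
  | _ n ih =>
  by_cases hne : g * z * g⁻¹ = k * z * k⁻¹
  · exact heq g k hne
  have o : ∀ g : G, orderOf (g * z * g⁻¹) = 2 := fun g => by rw [orderOf_conj, hz.inv]
  obtain ⟨a, a1, a2, a3, a4⟩ := hz.side (o k) (mem_cent1_comm.1 hc) hne hD
  obtain ⟨b, b1, b2, b3, b4⟩ := hz.side (o g) hc (Ne.symm hne) (by rwa [inf_comm])
  have hVa := Ohm_abelem 2 (Zc_ab D)
  have hVZ := Ohm_le 2 (Zc D)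
  have hN := (norm_le_norm_Zc D).trans (norm_le_norm_Ohm 2 _)
  have hC : D ≤ 𝐂(Ohm 2 (Zc D)) := (le_cent_Zc D).trans (cent_anti hVZ)
  have hm : ∀ x, orderOf x = 2 → x ∈ 𝐂[g * z * g⁻¹] ⊓ 𝐂[k * z * k⁻¹] → D ≤ 𝐂[x] → x ∈ D :=
    fun x h1 h2 h3 => hD.le_of_norm (zpowers_le.2 h2) (isPGroup_zpowers_inv h1)
      (Or.inr (le_norm_of_le_cent (zpowers_le.2 (le_cent1_iff.1 h3)))) (mem_zpowers x)
  have hg := hm _ (o g) ⟨mem_cent1_self _, hc⟩ (hD.le.trans inf_le_left)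
  have hk := hm _ (o k) ⟨mem_cent1_comm.1 hc, mem_cent1_self _⟩ (hD.le.trans inf_le_right)
  rcases h.dih hVa (hN a2) (hN b2) (hC a4) (hC b4) with h1 | ⟨m, h1, h2, -⟩
  swap
  · exact hV g k _ hVa (by nlinarith) (hVZ.trans ((Zc_le D).trans hD.le))
  have hL : closure {a, b} ≤ 𝐍(D) := (closure_le _).2 (by rintro _ (rfl | rfl); exacts [a2, b2])
  obtain ⟨T, hT, h2⟩ := exists_syl_ge (zpowers_le.2 (subset_closure (by simp) : a ∈ closure {a, b}))
    (isPGroup_zpowers_of_sq hD.isPGroup a4)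
  obtain ⟨x, hx, h3⟩ := hT.exists_le_conj'
    (zpowers_le.2 (subset_closure (by simp) : b ∈ closure {a, b}))
    (isPGroup_zpowers_of_sq hD.isPGroup b4)
  obtain ⟨c, c1, t, ht, rfl⟩ := (mem_sup_norm_left (hT.le.trans (Core.le_normalizer_pResidualOf _))).1
    ((Core.pResidualOf_sup_of_isSylowIn hT).ge hx)
  rw [← conj_conj, conj_eq_of_mem ht, zpowers_le, OO.mem_conj] at h3
  have c2 := hL (Core.pResidualOf_le _ c1)
  obtain ⟨l, -, hl⟩ := hz.syl.exists_le_conj' le_top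
    (isPGroup_sup hD.isPGroup hT.isPGroup (Or.inr (hT.le.trans hL)))
  have key : ∀ g' y, g' * z * g'⁻¹ ∈ D → D ≤ 𝐂[g' * z * g'⁻¹] → y ∈ 𝐂[g' * z * g'⁻¹] → y ∈ T →
      y ∉ D → R g' l := fun g' y h4 h5 h6 h7 h8 => by
    have h9 : D ⊔ zpowers y ≤ l •ᶜ S := (sup_le_sup_left (zpowers_le.2 h7) D).trans hl
    obtain ⟨D', h10, h11⟩ := exists_syl_ge (le_inf (sup_le h5 (zpowers_le.2 h6))
      (h9.trans (hz.le_cent l))) ((hz.syl_cent l).isPGroup.to_le h9)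
    refine ih _ ?_ g' l (hz.le_cent l (h9 (mem_sup_left h4))) D' h10 rfl
    have := card_lt ((left_lt_sup.2 fun e => h8 (zpowers_le.1 e)).trans_le h11)
    have : ♯D' ≤ Nat.card G := card_top (G := G) ▸ card_le le_top
    omega
  have c3 : c ∈ 𝐂[k * z * k⁻¹] := cent_le_cent1 (mem_Ohm (mem_inf.2 ⟨hk, le_cent1_iff.1
    (hD.le.trans inf_le_right)⟩) (sq_of_inv (o k))) (h1 c1)
  exact tr g k l (key g a hg (hD.le.trans inf_le_left) a1 (h2 (mem_zpowers a)) a3)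
    (key k _ hk (hD.le.trans inf_le_right) (mul_mem (mul_mem (inv_mem c3) b1) c3) h3
      fun e => b3 (by simpa [mul_assoc] using conj_mem_of_norm c2 e))

/-- generation of a solvable group by normalizers of 2-subgroups containing a hyperplane of `A` -/
theorem le_of_hyperplanes (n : ℕ) : ∀ {G : Type u} [Group G] [Finite G] {Y T A M : Subgroup G},
    ♯Y = n → Sol Y → Syl 2 T Y → A ≤ T → IsElementaryAbelian 2 A →
    (∀ R ≤ T, ♯A ≤ 2 * ♯(A ⊓ R) → Y ⊓ 𝐍(R) ≤ M) → Y ≤ M := by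
  induction n using Nat.strong_induction_on with
  | _ n ih =>
  intro G _ _ Y T A M hn hs hT hA hA2 h
  by_cases h0 : Y = ⊥
  · exact h0 ▸ bot_le
  obtain ⟨N, h1, h2, h3, r, hr, h4⟩ := exists_norm_abelem hs h0 (le_norm_self Y)
  haveI := Fact.mk hr
  have hAN := hA.trans (hT.le.trans h2)
  have hc : r ≠ 2 → (♯N).Coprime ♯T := fun e =>
    coprime_of_isPGroup_ne (abelem_isPGroup h4) hT.isPGroup e
  have hNT : r = 2 → N ≤ T := fun e => hT.le_of_normal ⟨h1, h2⟩ (e ▸ abelem_isPGroup h4)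
  have hNM : N ≤ M := by
    by_cases e : r = 2
    · exact (le_inf h1 (le_norm_of_le (hNT e))).trans (h T le_rfl (by rw [inf_eq_left.2 hA]; omega))
    refine coprime_abelian_gen_cent (abelem_ab hA2) hAN (coprime_card_mono (hc e) le_rfl hA)
      fun B hB hcy => (inf_le_inf h1 (cent_le_norm B)).trans (h B (hB.trans hA) ?_)
    have h5 := card_mul_card_quo (normalIn_of_ab (abelem_ab hA2) hB)
    have h6 := not_lt.1 fun e => not_isCyclic_of_card (abelem_quo hA2 B) e hcy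
    rw [inf_eq_right.2 hB]
    nlinarith
  rw [← quo_le_quo_iff h2 hNM]
  refine ih _ (hn ▸ card_quo_lt h1 h3) rfl (sol_quo hs N) (hT.quo h2) (quo_mono N hA)
    (abelem_quo hA2 N) fun R hR hc' => ?_
  have e1 : (T ⊓ quoPre N R) ⁒ N = R := by rw [inf_quoPre_quo, inf_eq_right.2 hR]
  have e2 : ♯A ≤ 2 * ♯(A ⊓ (T ⊓ quoPre N R)) := by
    rw [← inf_assoc, inf_eq_left.2 hA, ← card_inf_mul_card_quo hAN,
      ← card_inf_mul_card_quo (inf_le_left.trans hAN : A ⊓ quoPre N R ≤ _), inf_quoPre_quo,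
      ← inf_assoc, inf_eq_left.2 (inf_le_left.trans (le_quoPre R))]
    nlinarith
  refine le_trans (le_of_eq ?_) (quo_mono N (h _ inf_le_left e2))
  by_cases e : r = 2
  · rw [quo_inf_norm_eq ⟨le_inf (hNT e) (le_quoPre R), inf_le_left.trans (hT.le.trans h2)⟩, e1]
  · rw [quo_inf_norm_of_coprime h1 (inf_le_left.trans (hT.le.trans h2))
      (coprime_card_mono (hc e) le_rfl inf_le_left) (Or.inl (sol_of_le hs h1)), e1]

end Cfsg.Agent.ZL
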